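import Cfsg.Prelude.Def_LieTypeChar
import Cfsg.Prelude.Def_GeometricClasses

/-!
# Classical groups of natural degree at least `n` (helper888)
-/

set_option autoImplicit false

namespace Cfsg.Agent.H888.C6

open Cfsg

/-- `T` is a classical group in characteristic `s` with natural module of dimension at least `n`. -/
def ClDeg (n s : ℕ) (T : Type*) [Group T] : Prop :=
  (∃ (K : Type) (_ : Field K) (_ : Fintype K) (_ : CharP K s) (d : ℕ), n ≤ d ∧
      Nonempty (T ≃* Matrix.ProjectiveSpecialLinearGroup (Fin d) K)) ∨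
  (∃ (K : Type) (_ : Field K) (_ : Fintype K) (_ : CharP K s) (d q : ℕ), Fintype.card K = q ^ 2 ∧ n ≤ d ∧
      Nonempty (T ≃* PSU d K q)) ∨
  (∃ (K : Type) (_ : Field K) (_ : Fintype K) (_ : CharP K s) (m : ℕ), n ≤ 2 * m ∧ Nonempty (T ≃* PSp m K)) ∨
  (∃ (K : Type) (_ : Field K) (_ : Fintype K) (_ : CharP K s) (m : ℕ), n ≤ 2 * m + 1 ∧
      Nonempty (T ≃* POmega K (quadFormOdd m K))) ∨
  (∃ (K : Type) (_ : Field K) (_ : Fintype K) (_ : CharP K s) (m : ℕ), n ≤ 2 * m ∧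
      Nonempty (T ≃* POmega K (quadFormPlus m K))) ∨
  (∃ (K : Type) (_ : Field K) (_ : Fintype K) (_ : CharP K s) (m : ℕ) (a b : K), n ≤ 2 * m ∧
      (∀ z₁ z₂ : K, z₁ ^ 2 + a * z₁ * z₂ + b * z₂ ^ 2 = 0 → z₁ = 0 ∧ z₂ = 0) ∧
      Nonempty (T ≃* POmega K (quadFormMinus (m - 1) K a b)))

end Cfsg.Agent.H888.C6
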