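import Cfsg.Agent.H888.C6.Over
import Cfsg.Agent.H888.C6.EvClass
import Cfsg.Agent.H888.C6.ClDeg
import Cfsg.Agent.LieClassical.OrthForms
import Cfsg.Agent.LieClassical.OrthFinite
import Cfsg.Agent.ClassicalGeometry.SympInvolutions

/-!
# Classical simple quotients: the natural degree is at least `2 ^ k` (helper888)
-/

set_option autoImplicit false

namespace Cfsg.Agent.H888.C6

open Cfsg Cfsg.Geo Matrix Cfsg.Agent.ClassicalGeometry.SympBasic Cfsg.Agent.H920 Cfsg.Agent.H919

universe u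

variable {ι : Type} [Fintype ι] [DecidableEq ι] {F : Type u} [Field F] {R : Subgroup (GL ι F)} {k : ℕ}
variable {C : Coord R 2 k} {q : V2 k → ZMod 2} {Y P : Subgroup (GL ι F)}

theorem natRep_psp (m : ℕ) (K : Type*) [Field K] : H917.NatRep K (Fin m ⊕ Fin m) (PSp m K) := by
  refine H917.NatRep.of_hom (H := Matrix.symplecticGroup (Fin m) K)
    (MonoidHom.toHomUnits (Submonoid.subtype (Matrix.symplecticGroup (Fin m) K))) ?_ ?_
  · intro A B h
    apply Subtype.ext
    exact congrArg (fun g : GL (Fin m ⊕ Fin m) K => (g : Matrix (Fin m ⊕ Fin m) (Fin m ⊕ Fin m) K)) h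
  · intro z hz
    rcases Cfsg.Agent.ClassicalGeometry.SympInvolutions.center_eq hz with h | h
    · exact H917.mem_center_GL_of_smul (c := 1) (by rw [one_smul]; exact h)
    · exact H917.mem_center_GL_of_smul (c := -1) (by rw [neg_smul, one_smul]; exact h)

theorem two_ne_of_char {K : Type} [Field K] {s : ℕ} [CharP K s] (hs : s.Prime) (h2 : s ≠ 2) : (2 : K) ≠ 0 := by
  intro h
  have h1 : ((2 : ℕ) : K) = 0 := by exact_mod_cast h
  exact h2 ((Nat.prime_dvd_prime_iff_eq hs Nat.prime_two).1 ((CharP.cast_eq_zero_iff K s 2).1 h1))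

open Cfsg.Agent.LieClassical Cfsg.Agent.LieClassical.OrthCore Cfsg.Agent.LieClassical.OrthTrans Cfsg.Agent.LieClassical.OrthForms
  Cfsg.Agent.LieClassical.OrthFinite in
theorem Over.clDeg [Finite F] (O : Over C q Y P) {s : ℕ} (hs : s.Prime) (h2 : s ≠ 2) (hT : ClOdd s (QY P)) :
    ClDeg (2 ^ k) s (QY P) := by
  rcases hT with ⟨K, _, _, _, d, hd2, hd, ⟨e⟩⟩ | ⟨K, _, _, _, m, hm2, hm, ⟨e⟩⟩ | ⟨K, _, _, _, d, q, hK, hd3, hd, ⟨e⟩⟩ |
    ⟨K, _, _, _, m, hm3, hodd, ⟨e⟩⟩ | ⟨K, _, _, _, m, hm4, ⟨e⟩⟩ | ⟨K, _, _, _, m, a, b, hm4, hab, ⟨e⟩⟩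
  · have : Nonempty (Fin d) := ⟨⟨0, by omega⟩⟩
    have h := O.nat_deg (two_ne_of_char hs h2) ((H917.natRep_psl K d).congr e)
    rw [Fintype.card_fin] at h
    exact Or.inl ⟨K, inferInstance, inferInstance, inferInstance, d, h, ⟨e⟩⟩
  · have : Nonempty (Fin m ⊕ Fin m) := ⟨Sum.inl ⟨0, by omega⟩⟩
    have h := O.nat_deg (two_ne_of_char hs h2) ((natRep_psp m K).congr e)
    rw [Fintype.card_sum, Fintype.card_fin] at h
    exact Or.inr (Or.inr (Or.inl ⟨K, inferInstance, inferInstance, inferInstance, m, by omega, ⟨e⟩⟩))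
  · have : Nonempty (Fin d) := ⟨⟨0, by omega⟩⟩
    have h := O.nat_deg (two_ne_of_char hs h2) ((H917.natRep_psu hK hd3).congr e)
    rw [Fintype.card_fin] at h
    exact Or.inr (Or.inl ⟨K, inferInstance, inferInstance, inferInstance, d, q, hK, h, ⟨e⟩⟩)
  · have : Nonempty ((Fin m ⊕ Fin m) ⊕ Unit) := ⟨Sum.inr ()⟩
    have hG : Good (oddForm m K) := by
      apply good_of_finite (nondeg_oddForm m K (two_ne_of_char hs h2))
      rw [Module.finrank_fintype_fun_eq_card, Fintype.card_sum, Fintype.card_sum, Fintype.card_fin, Fintype.card_unit]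
      omega
    have hN := H917.natRep_pomega hG
    rw [coe_oddForm] at hN
    have h := O.nat_deg (two_ne_of_char hs h2) (hN.congr e)
    rw [Fintype.card_sum, Fintype.card_sum, Fintype.card_fin, Fintype.card_unit] at h
    exact Or.inr (Or.inr (Or.inr (Or.inl ⟨K, inferInstance, inferInstance, inferInstance, m, by omega, ⟨e⟩⟩)))
  · have : Nonempty (Fin m ⊕ Fin m) := ⟨Sum.inl ⟨0, by omega⟩⟩
    have hG : Good (plusForm m K) := by
      apply good_of_finite (nondeg_plusForm m K)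
      rw [Module.finrank_fintype_fun_eq_card, Fintype.card_sum, Fintype.card_fin]
      omega
    have hN := H917.natRep_pomega hG
    rw [coe_plusForm] at hN
    have h := O.nat_deg (two_ne_of_char hs h2) (hN.congr e)
    rw [Fintype.card_sum, Fintype.card_fin] at h
    exact Or.inr (Or.inr (Or.inr (Or.inr (Or.inl ⟨K, inferInstance, inferInstance, inferInstance, m, by omega, ⟨e⟩⟩))))
  · have : Nonempty ((Fin (m - 1) ⊕ Fin (m - 1)) ⊕ Fin 2) := ⟨Sum.inr 0⟩
    have hG : Good (minusForm (m - 1) K a b) := by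
      apply good_of_finite (nondeg_minusForm (m - 1) K a b hab)
      rw [Module.finrank_fintype_fun_eq_card, Fintype.card_sum, Fintype.card_sum, Fintype.card_fin, Fintype.card_fin]
      omega
    have hN := H917.natRep_pomega hG
    rw [coe_minusForm] at hN
    have h := O.nat_deg (two_ne_of_char hs h2) (hN.congr e)
    rw [Fintype.card_sum, Fintype.card_sum, Fintype.card_fin, Fintype.card_fin] at h
    exact Or.inr (Or.inr (Or.inr (Or.inr (Or.inr ⟨K, inferInstance, inferInstance, inferInstance, m, a, b, by omega, hab, ⟨e⟩⟩))))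

end Cfsg.Agent.H888.C6
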