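import Cfsg.Agent.H888.C6.FT

/-!
# Projective representations given by a group of matrices (helper888)

`Big.matrix`: `j : Y →* T'`, `Γ → T'` with scalar kernel, `ρ : Γ →* GL ι K`: the degree bound of `Big.proj`.
-/

set_option autoImplicit false

namespace Cfsg.Agent.H888.C6

open Module Module.End Matrix

section

variable {ι : Type*} [Fintype ι] [DecidableEq ι] {K : Type*} [Field K]

/-- matrices as endomorphisms over the algebraic closure -/
noncomputable def theta (K : Type*) [Field K] (ι : Type*) [Fintype ι] [DecidableEq ι] :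
    Matrix ι ι K →+* End (AlgebraicClosure K) (ι → AlgebraicClosure K) :=
  ((Matrix.toLinAlgEquiv' : Matrix ι ι (AlgebraicClosure K) ≃ₐ[AlgebraicClosure K] _) :
    Matrix ι ι (AlgebraicClosure K) →+* _).comp (algebraMap K (AlgebraicClosure K)).mapMatrix

theorem theta_injective : Function.Injective (theta K ι) := by
  intro M N h
  have h1 : (algebraMap K (AlgebraicClosure K)).mapMatrix M = (algebraMap K (AlgebraicClosure K)).mapMatrix N :=
    (Matrix.toLinAlgEquiv' : Matrix ι ι (AlgebraicClosure K) ≃ₐ[AlgebraicClosure K] _).injective h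
  exact Matrix.map_injective (algebraMap K (AlgebraicClosure K)).injective h1

theorem theta_smul (c : K) (M : Matrix ι ι K) :
    theta K ι (c • M) = (algebraMap K (AlgebraicClosure K) c) • theta K ι M := by
  have h1 : (algebraMap K (AlgebraicClosure K)).mapMatrix (c • M) =
      (algebraMap K (AlgebraicClosure K) c) • (algebraMap K (AlgebraicClosure K)).mapMatrix M := by
    ext i j
    simp [RingHom.mapMatrix_apply, Matrix.smul_apply]
  change (Matrix.toLinAlgEquiv' : Matrix ι ι (AlgebraicClosure K) ≃ₐ[AlgebraicClosure K] _) _ = _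
  rw [h1, map_smul]
  rfl

/-- a scalar endomorphism comes from a scalar matrix -/
theorem exists_scalar_of_theta [Nonempty ι] {M : Matrix ι ι K} {c : AlgebraicClosure K}
    (h : theta K ι M = c • 1) : ∃ d : K, M = d • 1 := by
  have h1 : (algebraMap K (AlgebraicClosure K)).mapMatrix M = c • 1 := by
    apply (Matrix.toLinAlgEquiv' : Matrix ι ι (AlgebraicClosure K) ≃ₐ[AlgebraicClosure K] _).injective
    rw [map_smul, map_one]
    exact h
  obtain ⟨i₀⟩ := ‹Nonempty ι›
  refine ⟨M i₀ i₀, ?_⟩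
  have h3 : ∀ i j, algebraMap K (AlgebraicClosure K) (M i j) = if i = j then c else 0 := by
    intro i j
    have := congrFun (congrFun h1 i) j
    rw [RingHom.mapMatrix_apply, Matrix.map_apply, Matrix.smul_apply, Matrix.one_apply, smul_eq_mul,
      mul_ite, mul_one, mul_zero] at this
    exact this
  ext i j
  rw [Matrix.smul_apply, Matrix.one_apply, smul_eq_mul, mul_ite, mul_one, mul_zero]
  apply (algebraMap K (AlgebraicClosure K)).injective
  rw [h3]
  split_ifs with h
  · rw [h3, if_pos rfl]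
  · rw [map_zero]

variable {Y : Type*} [Group Y] {A : Subgroup Y} [A.Normal] {N0 : ℕ}
variable {T' Γ : Type*} [Group T'] [Group Γ]

/-- The lift attached to a group of matrices. -/
theorem exists_plift [Nonempty ι] (hsq : ∀ a : A, a * a = 1) (j : Y →* T') (hj : ∃ a ∈ A, j a ≠ 1)
    (π : Γ →* T') (hπ : ∀ y, ∃ g, π g = j y) (ρ : Γ →* GL ι K)
    (hker : ∀ g, π g = 1 → ∃ c : K, ((ρ g : GL ι K) : Matrix ι ι K) = c • 1)
    (hsc : ∀ g, (∃ c : K, ((ρ g : GL ι K) : Matrix ι ι K) = c • 1) → π g = 1) :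
    ∃ P : PLift A (AlgebraicClosure K) (ι → AlgebraicClosure K),
      ∀ a : A, ∃ (g : Γ) (t : AlgebraicClosure K), t ≠ 0 ∧ π g = j a ∧ P.h a = t • theta K ι (ρ g) := by
  classical
  choose g hg using hπ
  have hne1 : (1 : End (AlgebraicClosure K) (ι → AlgebraicClosure K)) ≠ 0 := one_ne_zero
  -- squares
  have hsq' : ∀ a : A, ∃ c : K, c ≠ 0 ∧
      ((ρ (g a) : GL ι K) : Matrix ι ι K) * ((ρ (g a) : GL ι K) : Matrix ι ι K) = c • 1 := by
    intro a
    have h1 : π (g a * g a) = 1 := by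
      rw [map_mul, hg, ← map_mul, ← Subgroup.coe_mul, hsq, Subgroup.coe_one, map_one]
    obtain ⟨c, hc⟩ := hker _ h1
    rw [map_mul, Units.val_mul] at hc
    refine ⟨c, ?_, hc⟩
    rintro rfl
    rw [zero_smul] at hc
    have h3 : IsUnit (((ρ (g a) : GL ι K) : Matrix ι ι K) * ((ρ (g a) : GL ι K) : Matrix ι ι K)) :=
      (Units.isUnit _).mul (Units.isUnit _)
    rw [hc] at h3
    exact not_isUnit_zero h3
  choose c hc0 hc using hsq'
  have hroot : ∀ a : A, ∃ t : AlgebraicClosure K, t * t * algebraMap K (AlgebraicClosure K) (c a) = 1 := by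
    intro a
    obtain ⟨t, ht⟩ := IsAlgClosed.exists_pow_nat_eq ((algebraMap K (AlgebraicClosure K) (c a))⁻¹) (n := 2) (by norm_num)
    refine ⟨t, ?_⟩
    rw [← pow_two, ht, inv_mul_cancel₀]
    rw [map_ne_zero]; exact hc0 a
  choose t ht using hroot
  have ht0 : ∀ a, t a ≠ 0 := by
    intro a h0
    have := ht a
    rw [h0, zero_mul, zero_mul] at this
    exact zero_ne_one this
  have hmulρ : ∀ x y : Γ, theta K ι (ρ (x * y)) = theta K ι (ρ x) * theta K ι (ρ y) := by
    intro x y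
    rw [map_mul, Units.val_mul, map_mul]
  have hone : theta K ι (ρ (1 : Γ)) = 1 := by rw [map_one, Units.val_one, map_one]
  have hinv : ∀ x : Γ, theta K ι (ρ x) * theta K ι (ρ x⁻¹) = 1 := by
    intro x; rw [← hmulρ, mul_inv_cancel, hone]
  have hinv' : ∀ x : Γ, theta K ι (ρ x⁻¹) * theta K ι (ρ x) = 1 := by
    intro x; rw [← hmulρ, inv_mul_cancel, hone]
  have hcong : ∀ x y : Γ, π x = π y → ∃ d : AlgebraicClosure K, theta K ι (ρ x) = d • theta K ι (ρ y) := by
    intro x y hxy
    obtain ⟨d, hd⟩ := hker (x * y⁻¹) (by rw [map_mul, map_inv, hxy, mul_inv_cancel])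
    refine ⟨algebraMap K _ d, ?_⟩
    calc theta K ι (ρ x) = theta K ι (ρ (x * y⁻¹ * y)) := by rw [inv_mul_cancel_right]
      _ = _ := by rw [hmulρ, hd, theta_smul, map_one, smul_mul_assoc, one_mul]
  refine ⟨{ h := fun a => t a • theta K ι (ρ (g a)), sq := ?_, mul := ?_, act := ?_, ns := ?_ }, ?_⟩
  · intro a
    change (t a • theta K ι (ρ (g a))) * (t a • theta K ι (ρ (g a))) = 1
    rw [smul_mul_smul_comm, ← map_mul, hc, theta_smul, map_one, smul_smul, ht, one_smul]
  · intro a b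
    change ∃ c', (t a • theta K ι (ρ (g a))) * (t b • theta K ι (ρ (g b))) = c' • (t (a * b) • theta K ι (ρ (g (a * b : A))))
    obtain ⟨d, hd⟩ := hcong (g a * g b) (g (a * b : A)) (by
      rw [map_mul, hg, hg, hg, ← map_mul]; rfl)
    refine ⟨t a * t b * d * (t (a * b))⁻¹, ?_⟩
    rw [smul_mul_smul_comm, ← hmulρ, hd, smul_smul, smul_smul, mul_assoc _ _ (t (a * b)),
      inv_mul_cancel₀ (ht0 _), mul_one]
  · intro y
    refine ⟨theta K ι (ρ (g y)), theta K ι (ρ (g y)⁻¹), hinv' _, hinv _, fun a => ?_⟩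
    change ∃ c', theta K ι (ρ (g y)) * (t a • theta K ι (ρ (g a))) =
      c' • ((t (MulAut.conjNormal y a)) • theta K ι (ρ (g (MulAut.conjNormal y a : A))) * theta K ι (ρ (g y)))
    obtain ⟨d, hd⟩ := hcong (g y * g a) (g (MulAut.conjNormal y a : A) * g y) (by
      rw [map_mul, map_mul, hg, hg, hg, ← map_mul, ← map_mul, MulAut.conjNormal_apply]
      congr 1; group)
    refine ⟨t a * d * (t (MulAut.conjNormal y a))⁻¹, ?_⟩
    rw [mul_smul_comm, ← hmulρ, hd, smul_mul_assoc, ← hmulρ, smul_smul, smul_smul, mul_assoc _ _ (t _),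
      inv_mul_cancel₀ (ht0 _), mul_one]
  · obtain ⟨a, ha, hja⟩ := hj
    refine ⟨⟨a, ha⟩, fun c' hc' => hja ?_⟩
    change t ⟨a, ha⟩ • theta K ι (ρ (g a)) = c' • 1 at hc'
    have h1 : theta K ι (ρ (g a)) = ((t ⟨a, ha⟩)⁻¹ * c') • 1 := by
      rw [← smul_smul, ← hc', smul_smul, inv_mul_cancel₀ (ht0 _), one_smul]
    obtain ⟨d, hd⟩ := exists_scalar_of_theta h1
    rw [← hg]
    exact hsc _ ⟨d, hd⟩
  · intro a
    exact ⟨g a, t a, ht0 a, hg _, rfl⟩

theorem alg_two_ne (h2 : (2 : K) ≠ 0) : (2 : AlgebraicClosure K) ≠ 0 := by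
  intro h
  apply h2
  apply (algebraMap K (AlgebraicClosure K)).injective
  rw [map_ofNat, map_zero]; exact h

/-- **Projective representations given by matrices.** -/
theorem Big.matrix [Nonempty ι] (hB : Big A N0) (h2 : (2 : K) ≠ 0) (j : Y →* T') (hj : ∃ a ∈ A, j a ≠ 1)
    (π : Γ →* T') (hπ : ∀ y, ∃ g, π g = j y) (ρ : Γ →* GL ι K)
    (hker : ∀ g, π g = 1 → ∃ c : K, ((ρ g : GL ι K) : Matrix ι ι K) = c • 1)
    (hsc : ∀ g, (∃ c : K, ((ρ g : GL ι K) : Matrix ι ι K) = c • 1) → π g = 1) :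
    Nat.card A ≤ Fintype.card ι ^ 2 ∨ 2 * N0 ≤ Fintype.card ι * (Fintype.card ι - 1) := by
  obtain ⟨P, -⟩ := exists_plift hB.sq j hj π hπ ρ hker hsc
  have := hB.proj (alg_two_ne h2) P
  rwa [Module.finrank_fintype_fun_eq_card] at this

/-- **Linear representations given by matrices.** -/
theorem Big.matrix_linear (hB : Big A N0) (h2 : (2 : K) ≠ 0) (ρ : Y →* GL ι K) (hj : ∃ a ∈ A, ρ a ≠ 1) :
    N0 ≤ Fintype.card ι := by
  have := hB.linear (V := ι → K) h2
    (((Matrix.toLinAlgEquiv' : Matrix ι ι K ≃ₐ[K] _) : Matrix ι ι K →* End K (ι → K)).comp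
      ((Units.coeHom _).comp ρ)) (by
    obtain ⟨a, ha, h⟩ := hj
    refine ⟨a, ha, fun h1 => h ?_⟩
    have h3 : ((ρ a : GL ι K) : Matrix ι ι K) = 1 :=
      (Matrix.toLinAlgEquiv' : Matrix ι ι K ≃ₐ[K] _).injective (by rw [map_one]; exact h1)
    exact Units.ext h3)
  rwa [Module.finrank_fintype_fun_eq_card] at this

/-- **Permutation representations.** -/
theorem Big.perm (hB : Big A N0) {Ω : Type*} [Fintype Ω] [DecidableEq Ω] (f : Y →* Equiv.Perm Ω)
    (hf : ∃ a ∈ A, f a ≠ 1) : N0 ≤ Fintype.card Ω := by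
  have := hB.linear (K := ℚ) (V := Ω → ℚ) (by norm_num)
    { toFun := fun y => LinearMap.funLeft ℚ ℚ (f y).symm
      map_one' := by
        refine LinearMap.ext fun v => ?_
        funext i
        rw [map_one]
        rfl
      map_mul' := fun x y => by
        refine LinearMap.ext fun v => ?_
        funext i
        rw [map_mul]
        rfl } (by
    obtain ⟨a, ha, h⟩ := hf
    refine ⟨a, ha, fun h1 => h ?_⟩
    ext i
    have h3 := congrArg (fun g : End ℚ (Ω → ℚ) => g (Pi.single i 1) (f a i)) h1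
    simp only [MonoidHom.coe_mk, OneHom.coe_mk, LinearMap.funLeft_apply, End.one_apply] at h3
    rw [Equiv.symm_apply_apply, Pi.single_eq_same] at h3
    by_contra hne
    have hne' : f a i ≠ i := hne
    rw [Pi.single_eq_of_ne hne'] at h3
    exact one_ne_zero h3)
  rwa [Module.finrank_fintype_fun_eq_card] at this

end

end Cfsg.Agent.H888.C6
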