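import Cfsg.Agent.H888.C6.EvClass
import Cfsg.Agent.S2100
import Cfsg.Agent.S2101
import Cfsg.Agent.S2102
import Cfsg.Agent.S2103
import Cfsg.Agent.S2105
import Cfsg.Agent.S2106
import Cfsg.Agent.S2107
import Cfsg.Agent.S2108
import Cfsg.Agent.S2110
import Cfsg.Agent.S2111
import Cfsg.Agent.S2113
import Cfsg.Agent.S2114
import Cfsg.Agent.S2115
import Cfsg.Agent.OrdDiv.Table

/-!
# Exceptional groups with a perfect central extension of even kernel (helper888)
-/

set_option autoImplicit false

namespace Cfsg.Agent.H888.C6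

open Cfsg Cfsg.Agent.H878

universe u v

theorem odd_gcd_three (k : ℕ) : Odd (Nat.gcd 3 k) := odd_of_dvd_odd (Nat.gcd_dvd_left 3 k) (by decide)

theorem ev_exc {T : Type v} [Group T] (h : IsExceptionalLieType T) (h20 : 2 ^ 20 ∣ Nat.card T) : Away.{u} 2 T ∨
    (∃ (F : Type) (_ : Field F) (_ : Fintype F), Odd (Fintype.card F) ∧ Nonempty (T ≃* ↥(Lie.chevE7.group F))) ∨
    (∃ (F : Type) (_ : Field F) (_ : Fintype F), Fintype.card F = 2 ∧ Nonempty (T ≃* ↥(Lie.chevF4.group F))) ∨
    (∃ (K : Type) (_ : Field K) (_ : Fintype K), Fintype.card K = 2 ^ 2 ∧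
      Nonempty (T ≃* ↥(Lie.twistedE6 K 2))) := by
  rcases h with h | h | h | h | h | h | h | h | h | h | h
  · left
    obtain ⟨F, _, _, hF, e⟩ := h
    by_cases h5 : 5 ≤ Fintype.card F
    · exact (away_odd (S2100.result h5) odd_one).of_nonempty e
    · rcases (show Fintype.card F = 3 ∨ Fintype.card F = 4 by omega) with h | h
      · exact (away_odd (S2101.result h) (by decide)).of_nonempty e
      · exfalso
        have h2 : Nat.card T = 4 ^ 6 * (4 ^ 2 - 1) * (4 ^ 6 - 1) := by
          rw [Nat.card_congr e.some.toEquiv, (OrdDiv.table.{0}).g2 F, h]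
        rw [h2] at h20
        revert h20; decide
  · obtain ⟨F, _, _, e⟩ := h
    by_cases h5 : 3 ≤ Fintype.card F
    · left
      exact (away_odd (S2103.result h5) odd_one).of_nonempty e
    · have h1 : 1 < Fintype.card F := Fintype.one_lt_card
      exact Or.inr (Or.inr (Or.inl ⟨F, inferInstance, inferInstance, by omega, e⟩))
  · left
    obtain ⟨F, _, _, e⟩ := h
    exact (away_odd (S2105.result rfl) (odd_gcd_three _)).of_nonempty e
  · obtain ⟨F, _, _, e⟩ := h
    rcases Nat.even_or_odd (Fintype.card F) with hF | hF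
    · left
      refine (away_odd (S2106.result rfl) ?_).of_nonempty e
      have h1 : 1 < Fintype.card F := Fintype.one_lt_card
      have : Odd (Fintype.card F - 1) := by
        obtain ⟨k, hk⟩ := hF
        exact ⟨k - 1, by omega⟩
      exact odd_of_dvd_odd (Nat.gcd_dvd_right 2 _) this
    · exact Or.inr (Or.inl ⟨F, inferInstance, inferInstance, hF, e⟩)
  · left
    obtain ⟨F, _, _, e⟩ := h
    exact (away_odd S2107.result odd_one).of_nonempty e
  · obtain ⟨K, _, _, q, hq, hK, e⟩ := h
    by_cases h2 : q = 2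
    · subst h2
      exact Or.inr (Or.inr (Or.inr ⟨K, inferInstance, inferInstance, hK, e⟩))
    · left
      exact (away_odd (S2108.result hq hK h2) (odd_gcd_three _)).of_nonempty e
  · left
    obtain ⟨K, _, _, q, hq, hK, e⟩ := h
    exact (away_odd (S2110.result hq hK) odd_one).of_nonempty e
  · left
    obtain ⟨F, _, _, m, hm, hF, e⟩ := h
    by_cases h2 : m = 1
    · exfalso
      subst h2
      have h3 := (OrdDiv.table.{0}).sz F 1 (le_refl 1) hF
      rw [Nat.card_congr e.some.toEquiv, h3] at h20
      revert h20; decide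
    · exact (away_odd (S2111.result (show 2 ≤ m by omega) hF) odd_one).of_nonempty e
  · left
    obtain ⟨F, _, _, m, hm, hF, e⟩ := h
    exact (away_odd (S2113.result hm hF) odd_one).of_nonempty e
  · left
    obtain ⟨F, _, _, m, hm, hF, e⟩ := h
    exact (away_odd (S2114.result hm hF) odd_one).of_nonempty e
  · left
    exact (away_odd S2115.result odd_one).of_nonempty h

end Cfsg.Agent.H888.C6
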