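import Cfsg.Agent.H888.C6.EvExc
import Cfsg.Agent.S2042
import Cfsg.Agent.S2055
import Cfsg.Agent.S2059
import Cfsg.Prelude.Def_Classification2

/-!
# Known simple groups with a perfect central extension of even kernel, of order divisible by `2 ^ 20` (helper888)
-/

set_option autoImplicit false

namespace Cfsg.Agent.H888.C6

open Cfsg Cfsg.Agent.H878

universe u v

theorem spor_not {T : Type v} [Group T] (h20 : 2 ^ 20 ∣ Nat.card T) (x : OrdDiv.Grp × ℕ) (hx : x ∈ OrdDiv.spor)
    (hd : ¬ 2 ^ 20 ∣ x.2) (h : OrdDiv.Real x.1 T) : False := by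
  have h1 := (OrdDiv.table.{v}).spor T x hx h
  rw [h1] at h20
  exact hd h20

theorem ev_spor {T : Type v} [Group T] (h : IsSporadicGroup T) (h20 : 2 ^ 20 ∣ Nat.card T) : Away.{u} 2 T ∨
    Spor.IsoCo1 T ∨ Spor.IsoB T := by
  rcases h with h | h | h | h | h | h | h | h | h | h | h | h | h | h | h | h | h | h | h | h | h | h | h | h | h | h
  · exact (spor_not h20 (.m11, 7920) (by decide) (by decide) h).elim
  · exact (spor_not h20 (.m12, 95040) (by decide) (by decide) h).elim
  · exact (spor_not h20 (.m22, 443520) (by decide) (by decide) h).elim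
  · exact (spor_not h20 (.m23, 10200960) (by decide) (by decide) h).elim
  · exact (spor_not h20 (.m24, 244823040) (by decide) (by decide) h).elim
  · exact (spor_not h20 (.j1, 175560) (by decide) (by decide) h).elim
  · exact (spor_not h20 (.j2, 604800) (by decide) (by decide) h).elim
  · exact (spor_not h20 (.j3, 50232960) (by decide) (by decide) h).elim
  · exact Or.inl ((away_odd S2042.result odd_one).of_nonempty h)
  · exact Or.inr (Or.inl h)
  · exact (spor_not h20 (.co2, 42305421312000) (by decide) (by decide) h).elim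
  · exact (spor_not h20 (.co3, 495766656000) (by decide) (by decide) h).elim
  · exact (spor_not h20 (.mcl, 898128000) (by decide) (by decide) h).elim
  · exact (spor_not h20 (.hs, 44352000) (by decide) (by decide) h).elim
  · exact (spor_not h20 (.suz, 448345497600) (by decide) (by decide) h).elim
  · exact (spor_not h20 (.he, 4030387200) (by decide) (by decide) h).elim
  · exact (spor_not h20 (.ru, 145926144000) (by decide) (by decide) h).elim
  · exact (spor_not h20 (.on, 460815505920) (by decide) (by decide) h).elim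
  · exact (spor_not h20 (.ly, 51765179004000000) (by decide) (by decide) h).elim
  · exact (spor_not h20 (.fi22, 64561751654400) (by decide) (by decide) h).elim
  · exact (spor_not h20 (.fi23, 4089470473293004800) (by decide) (by decide) h).elim
  · exact Or.inl ((away_odd S2055.result (by decide)).of_nonempty h)
  · exact (spor_not h20 (.hn, 273030912000000) (by decide) (by decide) h).elim
  · exact (spor_not h20 (.th, 90745943887872000) (by decide) (by decide) h).elim
  · exact Or.inr (Or.inr h)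
  · exact Or.inl ((away_odd S2059.result odd_one).of_nonempty h)

/-- **The simple groups with a perfect central extension of even kernel and order divisible by `2 ^ 20`.** -/
theorem even_known {T : Type v} [Group T] (h : IsKnownSimple' T) (hna : ¬ IsMulCommutative T)
    (h20 : 2 ^ 20 ∣ Nat.card T) : Away.{u} 2 T ∨ IsAlternating T ∨ (∃ s, s.Prime ∧ s ≠ 2 ∧ ClOdd s T) ∨
    (∃ (F : Type) (_ : Field F) (_ : Fintype F), Odd (Fintype.card F) ∧ Nonempty (T ≃* ↥(Lie.chevE7.group F))) ∨
    (∃ (F : Type) (_ : Field F) (_ : Fintype F), Fintype.card F = 2 ∧ Nonempty (T ≃* ↥(Lie.chevF4.group F))) ∨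
    (∃ (K : Type) (_ : Field K) (_ : Fintype K), Fintype.card K = 2 ^ 2 ∧
      Nonempty (T ≃* ↥(Lie.twistedE6 K 2))) ∨
    Spor.IsoCo1 T ∨ Spor.IsoB T := by
  have hcl : ∀ s : ℕ, s.Prime → s ≠ 2 → ClOdd s T → (∃ s, s.Prime ∧ s ≠ 2 ∧ ClOdd s T) := fun s h1 h2 h3 =>
    ⟨s, h1, h2, h3⟩
  rcases h with h | h | h | h | h | h | h | h | h | h
  · exfalso
    apply hna
    have : Fact (Nat.card T).Prime := ⟨h⟩
    have : IsCyclic T := isCyclic_of_prime_card (p := Nat.card T) rfl
    let _ : CommGroup T := IsCyclic.commGroup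
    exact ⟨⟨fun a b => mul_comm a b⟩⟩
  · exact Or.inr (Or.inl h)
  · rcases ev_psl.{u} h h20 with h | ⟨s, h1, h2, h3⟩
    · exact Or.inl h
    · exact Or.inr (Or.inr (Or.inl (hcl s h1 h2 (Or.inl h3))))
  · rcases ev_psp.{u} h h20 with h | ⟨s, h1, h2, h3⟩
    · exact Or.inl h
    · exact Or.inr (Or.inr (Or.inl (hcl s h1 h2 (Or.inr (Or.inl h3)))))
  · rcases ev_psu.{u} h h20 with h | ⟨s, h1, h2, h3⟩
    · exact Or.inl h
    · exact Or.inr (Or.inr (Or.inl (hcl s h1 h2 (Or.inr (Or.inr (Or.inl h3))))))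
  · obtain ⟨s, h1, h2, h3⟩ := ev_oodd h
    exact Or.inr (Or.inr (Or.inl (hcl s h1 h2 (Or.inr (Or.inr (Or.inr (Or.inl h3)))))))
  · rcases ev_oplus.{u} h h20 with h | ⟨s, h1, h2, h3⟩
    · exact Or.inl h
    · exact Or.inr (Or.inr (Or.inl (hcl s h1 h2 (Or.inr (Or.inr (Or.inr (Or.inr (Or.inl h3))))))))
  · rcases ev_ominus.{u} h with h | ⟨s, h1, h2, h3⟩
    · exact Or.inl h
    · exact Or.inr (Or.inr (Or.inl (hcl s h1 h2 (Or.inr (Or.inr (Or.inr (Or.inr (Or.inr h3))))))))
  · rcases ev_exc.{u} h h20 with h | h | h | h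
    · exact Or.inl h
    · exact Or.inr (Or.inr (Or.inr (Or.inl h)))
    · exact Or.inr (Or.inr (Or.inr (Or.inr (Or.inl h))))
    · exact Or.inr (Or.inr (Or.inr (Or.inr (Or.inr (Or.inl h)))))
  · rcases ev_spor.{u} h h20 with h | h | h
    · exact Or.inl h
    · exact Or.inr (Or.inr (Or.inr (Or.inr (Or.inr (Or.inr (Or.inl h))))))
    · exact Or.inr (Or.inr (Or.inr (Or.inr (Or.inr (Or.inr (Or.inr h))))))

end Cfsg.Agent.H888.C6
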