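import Cfsg.Agent.H888.C6.PExist
import Cfsg.Agent.H919.AschSplit

/-!
# Invariant subspaces of the matrix algebra (helper888)

`decomp` : a matrix is the sum of its components, multiples of elements of `R`; the components stay in each subspace
invariant under conjugation by `R`.
`scalar_or_absIrr` : a group normalised by `Y` is scalar or absolutely irreducible.
`mem_of_commutes` : an element commuting with `R` modulo scalars is in `R` up to scalars.
-/

set_option autoImplicit false

namespace Cfsg.Agent.H888.C6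

open Cfsg Cfsg.Geo Matrix Cfsg.Agent.ClassicalGeometry.SympBasic Cfsg.Agent.H920
open scoped commutatorElement

variable {ι : Type} [Fintype ι] [DecidableEq ι] {F : Type*} [Field F] {R : Subgroup (GL ι F)} {k : ℕ}
variable {C : Coord R 2 k} {q : V2 k → ZMod 2}

/-- a lift of a vector -/
noncomputable def lft (C : Coord R 2 k) (v : V2 k) : R := (C.surj v).choose

theorem φ_lft (C : Coord R 2 k) (v : V2 k) : C.φ (lft C v) = v := (C.surj v).choose_spec

/-- the matrix of the lift -/
noncomputable def EE (C : Coord R 2 k) (v : V2 k) : Matrix ι ι F := ((lft C v : GL ι F) : Matrix ι ι F)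

/-- its inverse -/
noncomputable def EI (C : Coord R 2 k) (v : V2 k) : Matrix ι ι F := (((lft C v : GL ι F)⁻¹ : GL ι F) : Matrix ι ι F)

theorem EE_EI (C : Coord R 2 k) (v : V2 k) : EE C v * EI C v = 1 := by
  rw [EE, EI, ← Units.val_mul, mul_inv_cancel]; rfl

theorem EI_EE (C : Coord R 2 k) (v : V2 k) : EI C v * EE C v = 1 := by
  rw [EE, EI, ← Units.val_mul, inv_mul_cancel]; rfl

theorem EE_comm (C : Coord R 2 k) (v w : V2 k) : EE C v * EE C w = sF F (bf v w) • (EE C w * EE C v) := by
  have := comm_sF C (lft C v) (lft C w)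
  rw [φ_lft, φ_lft] at this
  exact this

theorem EE_ne_zero [Nonempty ι] (C : Coord R 2 k) (v : V2 k) : EE C v ≠ 0 := by
  intro h
  have := EE_EI C v
  rw [h, Matrix.zero_mul] at this
  exact zero_ne_one this

theorem TC.EE_mul (T : TC C q) (v w : V2 k) : ∃ a : ZMod 2, EE C v * EE C w = sF F a • EE C (v + w) := by
  have h1 : C.φ (lft C v * lft C w * (lft C (v + w))⁻¹) = 0 := by
    rw [C.map_mul, C.map_mul, φ_neg_eq, φ_lft, φ_lft, φ_lft, v2_two]
  have h3 : EE C v * EE C w = ((lft C v * lft C w * (lft C (v + w))⁻¹ : R) : GL ι F) * EE C (v + w) := by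
    change _ = ((_ : GL ι F) : Matrix ι ι F) * ((lft C (v + w) : GL ι F) : Matrix ι ι F)
    rw [← Units.val_mul, Subgroup.coe_mul, Subgroup.coe_mul, Subgroup.coe_inv, inv_mul_cancel_right, Units.val_mul]
    rfl
  rcases T.ker _ h1 with h | h
  · exact ⟨0, by rw [h3, h, Matrix.one_mul, sF_zero, one_smul]⟩
  · exact ⟨1, by rw [h3, h, Matrix.neg_mul, Matrix.one_mul, sF_one, neg_smul, one_smul]⟩

theorem TC.exists_smul_EE (T : TC C q) (x : R) : ∃ a : ZMod 2, ((x : GL ι F) : Matrix ι ι F) = sF F a • EE C (C.φ x) := by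
  have h1 : C.φ (x * (lft C (C.φ x))⁻¹) = 0 := by
    rw [C.map_mul, φ_neg_eq, φ_lft, v2_two]
  have h3 : ((x : GL ι F) : Matrix ι ι F) = ((x * (lft C (C.φ x))⁻¹ : R) : GL ι F) * EE C (C.φ x) := by
    change _ = ((_ : GL ι F) : Matrix ι ι F) * ((lft C (C.φ x) : GL ι F) : Matrix ι ι F)
    rw [← Units.val_mul, Subgroup.coe_mul, Subgroup.coe_inv, inv_mul_cancel_right]
  rcases T.ker _ h1 with h | h
  · exact ⟨0, by rw [h3, h, Matrix.one_mul, sF_zero, one_smul]⟩
  · exact ⟨1, by rw [h3, h, Matrix.neg_mul, Matrix.one_mul, sF_one, neg_smul, one_smul]⟩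

/-- a matrix commuting with the `EE` is scalar -/
theorem TC.scalar_of_comm (T : TC C q) (habs : ActsAbsolutelyIrreducibly (matrixSet R)) {M : Matrix ι ι F}
    (h : ∀ w, EE C w * M = M * EE C w) : ∃ c : F, M = c • 1 := by
  apply habs.2
  rintro _ ⟨x, hx, rfl⟩
  obtain ⟨a, ha⟩ := T.exists_smul_EE ⟨x, hx⟩
  change M * (x : Matrix ι ι F) = (x : Matrix ι ι F) * M
  change (x : Matrix ι ι F) = _ at ha
  rw [ha, Matrix.mul_smul, Matrix.smul_mul, h]

/-- an eigenvector of all conjugations -/
theorem TC.smul_of_eig (T : TC C q) (habs : ActsAbsolutelyIrreducibly (matrixSet R)) {M : Matrix ι ι F} {v : V2 k}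
    (h : ∀ w, EE C w * M = sF F (bf w v) • (M * EE C w)) : ∃ c : F, M = c • EE C v := by
  obtain ⟨c, hc⟩ := T.scalar_of_comm habs (M := M * EI C v) (by
    intro w
    have h1 : EI C v * EE C w = sF F (bf w v) • (EE C w * EI C v) := by
      have h3 := EE_comm C w v
      calc EI C v * EE C w = EI C v * (EE C w * EE C v) * EI C v := by
            rw [Matrix.mul_assoc, Matrix.mul_assoc, EE_EI, Matrix.mul_one]
        _ = EI C v * (sF F (bf w v) • (EE C v * EE C w)) * EI C v := by rw [h3]
        _ = sF F (bf w v) • (EI C v * EE C v * EE C w * EI C v) := by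
            rw [Matrix.mul_smul, Matrix.smul_mul]; simp only [Matrix.mul_assoc]
        _ = _ := by rw [EI_EE, Matrix.one_mul]
    rw [← Matrix.mul_assoc, h, Matrix.smul_mul, Matrix.mul_assoc M (EI C v), h1, Matrix.mul_smul, Matrix.mul_assoc])
  refine ⟨c, ?_⟩
  calc M = M * EI C v * EE C v := by rw [Matrix.mul_assoc, EI_EE, Matrix.mul_one]
    _ = _ := by rw [hc, Matrix.smul_mul, Matrix.one_mul]

/-- the component -/
noncomputable def cmp (C : Coord R 2 k) (M : Matrix ι ι F) (v : V2 k) : Matrix ι ι F :=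
  ((2 : F) ^ (2 * k))⁻¹ • ∑ u : V2 k, sF F (bf u v) • (EE C u * M * EI C u)

theorem sum_sF (h2 : (2 : F) ≠ 0) {u : V2 k} (hu : u ≠ 0) : ∑ v : V2 k, sF F (bf u v) = 0 := by
  obtain ⟨w, hw⟩ := exists_bf_one hu
  have h1 : ∑ v : V2 k, sF F (bf u (v + w)) = ∑ v : V2 k, sF F (bf u v) :=
    Fintype.sum_equiv (Equiv.addRight w) _ _ (fun v => rfl)
  have h3 : ∑ v : V2 k, sF F (bf u (v + w)) = - ∑ v : V2 k, sF F (bf u v) := by
    rw [← Finset.sum_neg_distrib]
    refine Finset.sum_congr rfl fun v _ => ?_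
    rw [bf_add_right, bf_comm u w, hw, sF_mul, sF_one]; ring
  rw [h3] at h1
  have h4 : (2 : F) * ∑ v : V2 k, sF F (bf u v) = 0 := by
    rw [two_mul]; nth_rewrite 1 [← h1]; ring
  exact (mul_eq_zero.1 h4).resolve_left h2

theorem TC.sum_cmp (T : TC C q) (M : Matrix ι ι F) : ∑ v : V2 k, cmp C M v = M := by
  unfold cmp
  rw [← Finset.smul_sum, Finset.sum_comm]
  have h1 : ∀ u : V2 k, ∑ v : V2 k, sF F (bf u v) • (EE C u * M * EI C u) =
      (∑ v : V2 k, sF F (bf u v)) • (EE C u * M * EI C u) := fun u => by rw [Finset.sum_smul]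
  simp only [h1]
  rw [Finset.sum_eq_single (0 : V2 k)]
  · have h3 : ∑ v : V2 k, sF F (bf (0 : V2 k) v) = (2 : F) ^ (2 * k) := by
      simp only [bf_zero_left, sF_zero]
      rw [Finset.sum_const, Finset.card_univ, card_v2, nsmul_eq_mul, mul_one]
      push_cast; rfl
    have h4 : EE C 0 * M * EI C 0 = M := by
      rcases T.ker (lft C 0) (φ_lft C 0) with h | h
      · have h5 : EI C 0 = 1 := by
          have := EE_EI C 0
          rw [EE, h, Matrix.one_mul] at this; exact this
        rw [h5, EE, h, Matrix.one_mul, Matrix.mul_one]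
      · have h5 : EI C 0 = -1 := by
          have := EE_EI C 0
          rw [EE, h, Matrix.neg_mul, Matrix.one_mul] at this
          rw [← this, neg_neg]
        rw [h5, EE, h, Matrix.neg_mul, Matrix.one_mul, Matrix.mul_neg, Matrix.mul_one, neg_neg]
    rw [h3, h4, smul_smul, inv_mul_cancel₀ (pow_ne_zero _ T.two), one_smul]
  · intro u _ hu
    rw [sum_sF T.two hu, zero_smul]
  · intro h; exact absurd (Finset.mem_univ _) h

theorem TC.cmp_eq (T : TC C q) (habs : ActsAbsolutelyIrreducibly (matrixSet R)) (M : Matrix ι ι F) (v : V2 k) :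
    ∃ c : F, cmp C M v = c • EE C v := by
  apply T.smul_of_eig habs
  intro w
  unfold cmp
  rw [Matrix.mul_smul, Matrix.smul_mul, smul_comm (sF F (bf w v))]
  congr 1
  rw [Finset.mul_sum, Finset.sum_mul, Finset.smul_sum]
  -- reindex u ↦ w + u
  have h1 : ∑ u : V2 k, EE C w * (sF F (bf u v) • (EE C u * M * EI C u)) =
      ∑ u : V2 k, EE C w * (sF F (bf (w + u) v) • (EE C (w + u) * M * EI C (w + u))) :=
    (Fintype.sum_equiv (Equiv.addLeft w) _ _ (fun u => rfl)).symm
  have key : ∀ u, EE C (w + u) * M * EI C (w + u) = EE C w * (EE C u * M * EI C u) * EI C w := by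
    intro u
    obtain ⟨a, ha⟩ := T.EE_mul w u
    have h3 : EE C (w + u) = sF F a • (EE C w * EE C u) := by
      rw [ha, smul_smul, sF_sq, one_smul]
    have h4 : EI C (w + u) = sF F a • (EI C u * EI C w) := by
      have h5 : (sF F a • (EI C u * EI C w)) * EE C (w + u) = 1 := by
        rw [h3, Matrix.smul_mul, Matrix.mul_smul, smul_smul, sF_sq, one_smul]
        calc EI C u * EI C w * (EE C w * EE C u) = EI C u * (EI C w * EE C w) * EE C u := by
              simp only [Matrix.mul_assoc]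
          _ = 1 := by rw [EI_EE, Matrix.mul_one, EI_EE]
      calc EI C (w + u) = (sF F a • (EI C u * EI C w)) * EE C (w + u) * EI C (w + u) := by rw [h5, Matrix.one_mul]
        _ = _ := by rw [Matrix.mul_assoc, EE_EI, Matrix.mul_one]
    rw [h3, h4, Matrix.smul_mul, Matrix.smul_mul, Matrix.mul_smul, smul_smul, sF_sq, one_smul]
    simp only [Matrix.mul_assoc]
  have hww : ∀ X : Matrix ι ι F, EE C w * (EE C w * X * EI C w) = X * EE C w := by
    intro X
    have hs : ∃ s : F, EE C w * EE C w = s • 1 ∧ EI C w = s • EE C w ∧ s * s = 1 := by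
      refine ⟨sF F (q w), ?_, ?_, sF_sq _⟩
      · have := T.sqs (lft C w)
        rw [φ_lft] at this; exact this
      · have h5 := T.sqs (lft C w)
        rw [φ_lft] at h5
        change EE C w * EE C w = _ at h5
        calc EI C w = (sF F (q w) * sF F (q w)) • EI C w := by rw [sF_sq, one_smul]
          _ = sF F (q w) • ((sF F (q w) • (1 : Matrix ι ι F)) * EI C w) := by
            rw [Matrix.smul_mul, Matrix.one_mul, smul_smul]
          _ = _ := by rw [← h5, Matrix.mul_assoc, EE_EI, Matrix.mul_one]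
    obtain ⟨s, h5, h6, h7⟩ := hs
    rw [h6, Matrix.mul_smul, Matrix.mul_smul, ← Matrix.mul_assoc, ← Matrix.mul_assoc, h5, Matrix.smul_mul,
      Matrix.one_mul, Matrix.smul_mul, smul_smul, h7, one_smul]
  rw [h1]
  refine Finset.sum_congr rfl fun u _ => ?_
  rw [key u, Matrix.mul_smul, hww, bf_add_left, sF_mul, Matrix.smul_mul, smul_smul]

/-- components stay in invariant subspaces -/
theorem cmp_mem (C : Coord R 2 k) {U : Submodule F (Matrix ι ι F)}
    (hU : ∀ x ∈ R, ∀ M ∈ U, (x : Matrix ι ι F) * M * ((x⁻¹ : GL ι F) : Matrix ι ι F) ∈ U) {M : Matrix ι ι F}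
    (hM : M ∈ U) (v : V2 k) : cmp C M v ∈ U := by
  unfold cmp
  apply Submodule.smul_mem
  apply Submodule.sum_mem
  intro u _
  apply Submodule.smul_mem
  exact hU _ (lft C u).2 M hM

end Cfsg.Agent.H888.C6
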