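import Cfsg.Agent.H934.HeisE7
import Cfsg.Agent.H917.Rank

/-!
# An elementary abelian subgroup of rank 17 in `E₇(q)` (helper888)
-/

set_option autoImplicit false

namespace Cfsg.Agent.H888.C6

open Cfsg Cfsg.Lie Cfsg.Agent.H934.HeisRoot Cfsg.Agent.H934.HeisChev Cfsg.Agent.H912.Bd

universe u v

section

variable {Γ F ι κ : Type*} [Group Γ] [Field F] [Fintype ι] [DecidableEq ι] (R : RH Γ F ι κ)

theorem rh_om_eq_zero {L : ι → Prop} (hL : ∀ i j, L i → L j → R.b i j = 0) {v w : ι → F}
    (hv : ∀ i, v i ≠ 0 → L i) (hw : ∀ i, w i ≠ 0 → L i) : R.om v w = 0 := by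
  unfold RH.om
  refine Finset.sum_eq_zero fun i _ => Finset.sum_eq_zero fun j _ => ?_
  by_cases h1 : v i = 0
  · rw [h1]; ring
  by_cases h2 : w j = 0
  · rw [h2]; ring
  rw [hL i j (hv i h1) (hw j h2)]; ring

theorem rh_om_self (hb : ∀ i j, R.b i j = - R.b j i) (v : ι → F) (h2 : (2 : F) ≠ 0) : R.om v v = 0 := by
  have h : R.om v v = - R.om v v := by
    conv_lhs => unfold RH.om
    rw [Finset.sum_comm]
    unfold RH.om
    rw [← Finset.sum_neg_distrib]
    refine Finset.sum_congr rfl fun i _ => ?_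
    rw [← Finset.sum_neg_distrib]
    refine Finset.sum_congr rfl fun j _ => ?_
    rw [hb j i]; ring
  have h3 : 2 * R.om v v = 0 := by linear_combination h
  exact (mul_eq_zero.1 h3).resolve_left h2

/-- **The elementary abelian subgroup** of a totally isotropic set of root groups. -/
theorem rh_elem {s : ℕ} [CharP F s] [Finite F] (L : ι → Prop) (hL : ∀ i j, L i → L j → R.b i j = 0) :
    ∃ E : Subgroup Γ, (∀ a ∈ E, ∀ b ∈ E, a * b = b * a) ∧ (∀ e ∈ E, e ^ s = 1) ∧
      Nat.card ({i // L i} → F) * Nat.card F ≤ Nat.card E ∨ Infinite Γ := by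
  classical
  by_cases hfin : Infinite Γ
  · exact ⟨⊥, Or.inr hfin⟩
  have : Finite Γ := not_infinite_iff_finite.1 hfin
  let S : Set Γ := {g | (∃ i, L i ∧ ∃ t, g = R.x i t) ∨ ∃ a, g = R.z a}
  have hS : ∀ g ∈ S, ∀ h ∈ S, g * h = h * g := by
    rintro g (⟨i, hi, t, rfl⟩ | ⟨a, rfl⟩) h (⟨j, hj, u, rfl⟩ | ⟨b, rfl⟩)
    · rw [R.x_comm i j t u, hL i j hi hj, zero_mul, zero_mul, R.z_zero, mul_one]
    · exact R.x_z i t b
    · exact (R.x_z j u a).symm
    · rw [← R.z_add, ← R.z_add, add_comm]
  let E : Subgroup Γ := Subgroup.closure S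
  have hcomm : ∀ a ∈ E, ∀ b ∈ E, a * b = b * a := by
    have h1 : E ≤ Subgroup.centralizer S := by
      rw [Subgroup.closure_le]
      intro g hg
      rw [SetLike.mem_coe, Subgroup.mem_centralizer_iff]
      exact fun h hh => hS h hh g hg
    have h2 : E ≤ Subgroup.centralizer (E : Set Γ) := by
      rw [Subgroup.closure_le]
      intro g hg
      rw [SetLike.mem_coe, Subgroup.mem_centralizer_iff]
      intro h hh
      exact (Subgroup.mem_centralizer_iff.1 (h1 hh) g hg).symm
    intro a ha b hb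
    exact Subgroup.mem_centralizer_iff.1 (h2 hb) a ha
  have hxs : ∀ i t, R.x i t ^ s = 1 := by
    intro i t
    have h1 : ∀ m : ℕ, R.x i t ^ m = R.x i ((m : F) * t) := by
      intro m
      induction m with
      | zero => rw [pow_zero, Nat.cast_zero, zero_mul, R.x_zero]
      | succ m ih => rw [pow_succ, ih, ← R.x_add]; congr 1; push_cast; ring
    rw [h1, CharP.cast_eq_zero, zero_mul, R.x_zero]
  have hzs : ∀ t, R.z t ^ s = 1 := by
    intro t
    have h1 : ∀ m : ℕ, R.z t ^ m = R.z ((m : F) * t) := by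
      intro m
      induction m with
      | zero => rw [pow_zero, Nat.cast_zero, zero_mul, R.z_zero]
      | succ m ih => rw [pow_succ, ih, ← R.z_add]; congr 1; push_cast; ring
    rw [h1, CharP.cast_eq_zero, zero_mul, R.z_zero]
  have hexp : ∀ e ∈ E, e ^ s = 1 := by
    intro e he
    induction he using Subgroup.closure_induction with
    | mem g hg =>
      rcases hg with ⟨i, -, t, rfl⟩ | ⟨a, rfl⟩
      · exact hxs i t
      · exact hzs a
    | one => exact one_pow s
    | mul a b ha hb iha ihb =>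
      have : Commute a b := hcomm a ha b hb
      rw [this.mul_pow, iha, ihb, one_mul]
    | inv a ha iha => rw [inv_pow, iha, inv_one]
  refine ⟨E, Or.inl ⟨hcomm, hexp, ?_⟩⟩
  let ext : ({i // L i} → F) → ι → F := fun v i => if h : L i then v ⟨i, h⟩ else 0
  have hP : ∀ (l : List ι) (v : ι → F), (∀ i, v i ≠ 0 → L i) → R.P l v ∈ E := by
    intro l v hv
    induction l with
    | nil => rw [R.P_nil]; exact Subgroup.one_mem _
    | cons i l ih =>
      rw [R.P_cons]
      refine Subgroup.mul_mem _ ?_ ih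
      by_cases h : v i = 0
      · rw [h, R.x_zero]; exact Subgroup.one_mem _
      · exact Subgroup.subset_closure (Or.inl ⟨i, hv i h, v i, rfl⟩)
  have hext : ∀ v i, ext v i ≠ 0 → L i := by
    intro v i h
    by_contra hcon
    apply h
    change (if h : L i then v ⟨i, h⟩ else 0) = 0
    rw [dif_neg hcon]
  rw [← Nat.card_prod]
  refine Nat.card_le_card_of_injective (fun p : ({i // L i} → F) × F =>
    (⟨R.X (ext p.1) * R.z p.2, Subgroup.mul_mem _ (hP _ _ (hext p.1))
      (Subgroup.subset_closure (Or.inr ⟨p.2, rfl⟩))⟩ : E)) ?_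
  rintro ⟨v, a⟩ ⟨w, b⟩ hvw
  have h1 : R.X (ext v) * R.z a = R.X (ext w) * R.z b := congrArg Subtype.val hvw
  have hzz : ∀ a b, R.z a * R.z b = R.z b * R.z a := fun a b => by rw [← R.z_add, ← R.z_add, add_comm]
  have hxz : ∀ u c, R.X u * R.z c = R.z c * R.X u := R.X_z
  -- the difference
  have h2 : ext v = ext w := by
    by_contra hne
    have hd : ext v - ext w ≠ 0 := sub_ne_zero.2 hne
    obtain ⟨u, hu⟩ := R.special hd 1
    -- X (ext v) and X (ext w) have the same commutators
    have h3 := R.comm (ext v) u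
    have h4 := R.comm (ext w) u
    have h5 : R.X (ext v) = R.X (ext w) * R.z (b - a) := by
      have h6 : R.z (b - a) * R.z a = R.z b := by rw [← R.z_add, sub_add_cancel]
      have h7 : R.X (ext v) * R.z a = R.X (ext w) * R.z (b - a) * R.z a := by rw [mul_assoc, h6, h1]
      exact mul_right_cancel h7
    have h8 : R.z (R.om (ext v) u) = R.z (R.om (ext w) u) := by
      have h9 : R.X u * R.X (ext v) * R.z (R.om (ext v) u) = R.X u * R.X (ext v) * R.z (R.om (ext w) u) := by
        rw [← h3, h5]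
        calc R.X (ext w) * R.z (b - a) * R.X u = R.X (ext w) * R.X u * R.z (b - a) := by
              rw [mul_assoc, ← hxz u (b - a), ← mul_assoc]
          _ = R.X u * R.X (ext w) * R.z (R.om (ext w) u) * R.z (b - a) := by rw [h4]
          _ = _ := by rw [mul_assoc, hzz, ← mul_assoc, ← mul_assoc]
      exact mul_left_cancel h9
    have h10 : R.om (ext v - ext w) u = R.om (ext v) u - R.om (ext w) u := by
      have := R.om_add_left (ext v - ext w) (ext w) u
      rw [sub_add_cancel] at this
      rw [this]; ring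
    have h11 : R.z (R.om (ext v) u - R.om (ext w) u) = 1 := by
      have h12 : R.z (R.om (ext v) u - R.om (ext w) u) * R.z (R.om (ext w) u) = R.z (R.om (ext w) u) := by
        rw [← R.z_add, sub_add_cancel, h8]
      exact mul_eq_right.1 h12
    have h13 := R.z_inj _ h11
    rw [h10] at hu
    rw [h13] at hu
    exact zero_ne_one hu
  have h3 : v = w := by
    funext i
    have h4 := congrFun h2 i.1
    change (if h : L i.1 then v ⟨i.1, h⟩ else 0) = (if h : L i.1 then w ⟨i.1, h⟩ else 0) at h4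
    rw [dif_pos i.2, dif_pos i.2] at h4
    exact h4
  rw [h2] at h1
  have h4 := mul_left_cancel h1
  have h5 : R.z (a - b) = 1 := by
    have h6 : R.z (a - b) * R.z b = R.z b := by rw [← R.z_add, sub_add_cancel, h4]
    exact mul_eq_right.1 h6
  have h6 := R.z_inj _ h5
  rw [h3, sub_eq_zero.1 h6]

end

/-- **`E₇(q)` has an elementary abelian subgroup of rank `17`.** -/
theorem e7_rank {F : Type u} [Field F] [Fintype F] {s : ℕ} [CharP F s] :
    ∃ E : Subgroup ↥(chevE7.group F), (∀ a ∈ E, ∀ b ∈ E, a * b = b * a) ∧ (∀ e ∈ E, e ^ s = 1) ∧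
      s ^ 17 ≤ Nat.card E := by
  classical
  have : Finite (Matrix.GeneralLinearGroup chevE7.Idx F) := inferInstance
  have hfin : Finite ↥(chevE7.group F) := inferInstance
  let R := H934.HeisE7.tab.rh H934.HeisE7.hD H934.HeisE7.tab_ok F
  have hL : ∀ i j : Fin 32, i.1 < 16 → j.1 < 16 → R.b i j = 0 := by
    intro i j hi hj
    change (if j = H934.HeisE7.tab.opp i then -(H934.HeisE7.tab.e i : F) else 0) = 0
    rw [if_neg]
    intro h
    have h1 : j.1 = 31 - i.1 := congrArg Fin.val h
    omega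
  obtain ⟨E, h | h⟩ := rh_elem (s := s) R (fun i : Fin 32 => i.1 < 16) hL
  · obtain ⟨h1, h2, h3⟩ := h
    refine ⟨E, h1, h2, le_trans ?_ h3⟩
    have hsF : s ≤ Nat.card F := by
      rw [Nat.card_eq_fintype_card]
      exact Nat.le_of_dvd Fintype.card_pos (CharP.cast_eq_zero_iff F s _ |>.1 (by simp))
    have hc : Nat.card ({i : Fin 32 // i.1 < 16} → F) = Nat.card F ^ 16 := by
      rw [Nat.card_fun, Nat.card_eq_fintype_card (α := {i : Fin 32 // i.1 < 16})]
      congr 1
    rw [hc, ← pow_succ]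
    exact Nat.pow_le_pow_left hsF 17
  · exact (not_infinite_iff_finite.2 hfin h).elim

/-- **The row `E₇(q)` in cross characteristic.** -/
theorem not_e7_cross {K : Type v} [Field K] {F : Type u} [Field F] [Fintype F] {s : ℕ} (hs : s.Prime) [CharP F s]
    (hsK : (s : K) ≠ 0) {T : Type*} [Group T] (e : T ≃* ↥(chevE7.group F)) {n : ℕ} (hn : n ≤ 16)
    (hP : PR K n s T) : False := by
  obtain ⟨E, h1, h2, h3⟩ := e7_rank (F := F) (s := s)
  have hP' : PR K n s ↥(chevE7.group F) := hP.sub e.symm.toMonoidHom e.symm.injective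
  have : Finite (Matrix.GeneralLinearGroup chevE7.Idx F) := inferInstance
  have h4 := H917.PR.card_le_pow hP' hs hsK E h1 h2
  have h5 := h3.trans h4
  exact absurd ((Nat.pow_le_pow_iff_right hs.one_lt).1 h5) (by omega)

end Cfsg.Agent.H888.C6
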