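import Cfsg.Agent.H888.C6.Over

/-!
# No groups with a root group datum of type `F₄` in characteristic 2, `k ≤ 5` (helper888)
-/

set_option autoImplicit false

namespace Cfsg.Agent.H888.C6

open Cfsg Cfsg.Geo Matrix Cfsg.Agent.ClassicalGeometry.SympBasic Cfsg.Agent.H920 Cfsg.Agent.H919

universe u

variable {ι : Type} [Fintype ι] [DecidableEq ι] {F : Type u} [Field F] {R : Subgroup (GL ι F)} {k : ℕ}
variable {C : Coord R 2 k} {q : V2 k → ZMod 2} {Y P : Subgroup (GL ι F)}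

namespace Over

variable (O : Over C q Y P)

include O

/-- the centralizer of `R` modulo scalars -/
theorem mem_of_centralizes {x : QY P} (hx : ∀ y : Y, (y : GL ι F) ∈ R →
    x * mkY P ⟨y, O.le y.2⟩ = mkY P ⟨y, O.le y.2⟩ * x) :
    ∃ y : Y, (y : GL ι F) ∈ R ∧ x = mkY P ⟨y, O.le y.2⟩ := by
  have := O.nonempty
  obtain ⟨p, rfl⟩ := QuotientGroup.mk_surjective x
  obtain ⟨r, z, hz, hrz⟩ := O.tc.mem_of_commutes O.abs (y := (p : GL ι F)) (by
    intro r hr
    have h1 := hx ⟨r, O.yc.le hr⟩ hr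
    have h2 : mkY P (p * ⟨r, O.le (O.yc.le hr)⟩) = mkY P (⟨r, O.le (O.yc.le hr)⟩ * p) := by
      rw [map_mul, map_mul]; exact h1
    have h3 := mkY_eq.1 h2.symm
    rw [Subgroup.coe_mul, Subgroup.coe_mul] at h3
    have h4 : r * (p : GL ι F) * r⁻¹ * (p : GL ι F)⁻¹ = r * (p : GL ι F) * ((p : GL ι F) * r)⁻¹ := by group
    rw [h4]
    exact h3)
  refine ⟨⟨r, O.yc.le r.2⟩, r.2, ?_⟩
  change mkY P p = mkY P ⟨r, _⟩
  rw [mkY_eq, hrz]
  simpa using hz

/-- **No root group datum of type `F₄`.** -/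
theorem not_filt_F4 [Finite F] (hk5 : k ≤ 5)
    (hG : Cfsg.Agent.H684.FiltClass.FiltD 2 CoxeterMatrix.F₄ (QY P)) : False := by
  have := O.nonempty
  have h4 := O.four
  have hf := O.yc.fact
  have hB := O.yc.big O.tc (by omega)
  obtain ⟨j, hj, hj'⟩ := O.exists_j
  have hcard : Nat.card ((AY R Y).map j) = 2 ^ (2 * k) := by
    rw [← card_AY C O.yc.le]
    exact (Nat.card_congr (Subgroup.equivMapOfInjective _ _ hj).toEquiv).symm
  have h11 := BT.no_F4 hG (K := (AY R Y).map j) (N := j.range) (IsPGroup.of_card hcard) ?_ ?_ ?_ ?_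
  · rw [hcard] at h11
    have := (Nat.pow_le_pow_iff_right (by norm_num : 1 < 2)).1 h11
    omega
  · intro hbot
    rw [hbot, Subgroup.card_bot] at hcard
    have : 1 < 2 ^ (2 * k) := Nat.one_lt_two_pow (by omega)
    omega
  · intro x hx
    obtain ⟨y, hy, rfl⟩ := O.mem_of_centralizes (x := x) (by
      intro y hy
      have := (Subgroup.mem_centralizer_iff.1 hx) (j (mkY Y y)) ⟨mkY Y y, mem_AY.2 ⟨y, hy, rfl⟩, rfl⟩
      rw [hj'] at this
      exact this.symm)
    exact ⟨mkY Y y, mem_AY.2 ⟨y, hy, rfl⟩, hj' y⟩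
  · have hnorm : (AY R Y).Normal := inferInstance
    rintro _ ⟨y, rfl⟩
    rw [Subgroup.mem_normalizer_iff]
    have h1 : ∀ y : QY Y, ∀ a ∈ (AY R Y).map j, j y * a * (j y)⁻¹ ∈ (AY R Y).map j := by
      rintro y _ ⟨a, ha, rfl⟩
      exact ⟨y * a * y⁻¹, hnorm.conj_mem a ha y, by rw [map_mul, map_mul, map_inv]⟩
    intro a
    refine ⟨h1 y a, fun h => ?_⟩
    have h3 := h1 y⁻¹ _ h
    rw [map_inv] at h3
    have h5 : (j y)⁻¹ * (j y * a * (j y)⁻¹) * ((j y)⁻¹)⁻¹ = a := by group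
    rwa [h5] at h3
  · intro B hBK hB'
    rcases hB.irr (B.comap j) (by
      intro b hb
      obtain ⟨a, ha, hab⟩ := hBK (Subgroup.mem_comap.1 hb)
      rw [← hj hab]; exact ha) (by
      intro y b hb
      rw [Subgroup.mem_comap] at hb ⊢
      rw [map_mul, map_mul, map_inv]
      exact hB' (j y) ⟨y, rfl⟩ _ hb) with h | h
    · left
      rw [eq_bot_iff]
      intro b hb
      obtain ⟨a, ha, rfl⟩ := hBK hb
      have h3 : a ∈ B.comap j := hb
      rw [h, Subgroup.mem_bot] at h3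
      rw [h3, map_one]
      exact Subgroup.one_mem _
    · right
      apply le_antisymm hBK
      rintro _ ⟨a, ha, rfl⟩
      have h3 : a ∈ B.comap j := by rw [h]; exact ha
      exact h3

end Over

end Cfsg.Agent.H888.C6
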