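import Cfsg.Agent.H888.C6.EvSpor
import Cfsg.Agent.H888.C6.RowB
import Cfsg.Agent.H888.C6.RowE7
import Cfsg.Agent.H888.C6.RowF4
import Cfsg.Agent.H888.C6.RowCl
import Cfsg.Agent.H888.C6.MaxOf
import Cfsg.Agent.H269.C6Cross
import Cfsg.Agent.H680.CSixRows
import Cfsg.Agent.H779.CoRow.CoOne
import Cfsg.Agent.H7.ESixRep

/-!
# The simple quotient of a quasisimple overgroup is classical in the characteristic of the field (helper888)
-/

set_option autoImplicit false

namespace Cfsg.Agent.H888.C6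

open Cfsg Cfsg.Geo Matrix Cfsg.Agent.ClassicalGeometry.SympBasic Cfsg.Agent.H920 Cfsg.Agent.H919
open scoped commutatorElement

universe u

variable {ι : Type} [Fintype ι] [DecidableEq ι] {F : Type u} [Field F] {R : Subgroup (GL ι F)} {k : ℕ}
variable {C : Coord R 2 k} {q : V2 k → ZMod 2} {Y P : Subgroup (GL ι F)}

theorem N0_ge {k : ℕ} (hk : 5 ≤ k) : 495 ≤ N0 k := by
  have h1 := two_N0 (k := k) (by omega)
  have h2 : 32 ≤ 2 ^ k := by
    calc 32 = 2 ^ 5 := by norm_num
      _ ≤ 2 ^ k := Nat.pow_le_pow_right (by norm_num) hk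
  obtain ⟨n, hn⟩ : ∃ n, 2 ^ k = n + 32 := ⟨2 ^ k - 32, by omega⟩
  rw [hn] at h1
  have h3 : n + 32 - 2 = n + 30 := by omega
  rw [h3] at h1
  nlinarith

theorem kk_le {j k : ℕ} (hj : j ≤ k) : j * (j + 1) ≤ k * (k + 1) := Nat.mul_le_mul hj (by omega)

namespace Over

variable (O : Over C q Y P)

include O

theorem pow_dvd' [Finite F] {m : ℕ} (hm : m ≤ k * (k + 1)) : 2 ^ m ∣ Nat.card (QY P) :=
  (pow_dvd_pow 2 hm).trans O.pow_dvd


theorem not_alt [Finite F] {p : ℕ} [CharP F p] (h : IsAlternating (QY P)) : False := by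
  obtain ⟨N, -, ⟨e⟩⟩ := h
  have h4 := O.four
  have h1 : N0 k ≤ N := by
    have := O.perm_deg (Ω := Fin N) ((alternatingGroup (Fin N)).subtype.comp e.toMonoidHom)
      (Subtype.val_injective.comp e.injective)
    rwa [Fintype.card_fin] at this
  have h2 := two_N0 (k := k) (by omega)
  refine H680.CSix.alt_row (k := k) (N := N) h4 (by rw [← h2]; omega) (F := F) (p := p) fun r hr hr2 => ?_
  exact (O.pr hr hr2).sub e.symm.toMonoidHom e.symm.injective

theorem not_F4 [Finite F] {K : Type} [Field K] [Fintype K] (hK : Fintype.card K = 2)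
    (e : Nonempty (QY P ≃* ↥(Lie.chevF4.group K))) : False := by
  obtain ⟨e⟩ := e
  have h4 := O.four
  by_cases hk5 : k ≤ 5
  · have hchar : CharP K 2 := by
      have : Fact (Nat.Prime 2) := ⟨Nat.prime_two⟩
      exact charP_of_card_eq_prime (by rw [hK])
    have : Finite ↥(Lie.chevF4.group K) := Finite.of_equiv _ e.toEquiv
    exact O.not_filt_F4 hk5 ((H684.FiltExc.filtD_F4 K 2).of_equiv e.symm)
  · have h1 := O.pow_dvd' (m := 42) (kk_le (j := 6) (by omega))
    rw [Nat.card_congr e.toEquiv, (OrdDiv.table.{0}).f4 K 2 hK] at h1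
    revert h1
    norm_num

theorem not_E6 [Finite F] {K : Type} [Field K] [Fintype K] (hK : Fintype.card K = 2 ^ 2)
    (e : Nonempty (QY P ≃* ↥(Lie.twistedE6 K 2))) : False := by
  obtain ⟨e⟩ := e
  have h4 := O.four
  have hpp : IsPrimePow 2 := Nat.prime_two.isPrimePow
  by_cases hk5 : k ≤ 5
  · have hchar : CharP K 2 := by
      have : Fact (Nat.Prime 2) := ⟨Nat.prime_two⟩
      exact charP_of_card_eq_prime_pow (f := 2) (by rw [hK])
    have : Finite ↥(Lie.twistedE6 K 2) := Finite.of_equiv _ e.toEquiv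
    exact O.not_filt_F4 hk5 ((H684.FiltExc.filtD_twE6 hpp hK 2).of_equiv e.symm)
  · have h1 := O.pow_dvd' (m := 42) (kk_le (j := 6) (by omega))
    have h2 := (OrdDiv.table.{0}).te6 K 2 hpp hK
    rw [Nat.card_congr e.toEquiv] at h1
    have h3 := h1.trans (Dvd.intro_left _ h2)
    revert h3
    norm_num

theorem not_B [Finite F] (h : Spor.IsoB (QY P)) : False := by
  have h4 := O.four
  have := O.nonempty
  by_cases hk5 : k ≤ 5
  · have h1 := bd_baby O.tc.two h _ (pr_matrix P 2)
    rw [O.card, ← pow_mul] at h1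
    have h2 := (Nat.pow_le_pow_iff_right (by norm_num : 1 < 2)).1 h1
    omega
  · have h1 := O.pow_dvd' (m := 42) (kk_le (j := 6) (by omega))
    rw [(OrdDiv.table.{u}).spor _ (.b, 4154781481226426191177580544000000) (by decide) h] at h1
    revert h1
    norm_num

theorem not_Co1 [Finite F] (hcardR : Nat.card R = 2 ^ (1 + 2 * k)) (h : Spor.IsoCo1 (QY P)) : False := by
  have h4 := O.four
  have := O.nonempty
  by_cases hk4 : k = 4
  · subst hk4
    obtain ⟨z, hz⟩ := O.exists_neg
    have hzP : (z : GL ι F) ∈ P := O.le (O.yc.le z.2)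
    have hRP : R ≤ P := O.yc.le.trans O.le
    obtain ⟨z', hz'⟩ : ∃ z' : P, (z' : GL ι F) = z := ⟨⟨z, hzP⟩, rfl⟩
    have hval : ((z' : GL ι F) : Matrix ι ι F) = -1 := by rw [hz', hz]
    have hzsc : (z' : GL ι F) ∈ scalars ι F := by
      rw [mem_scalars_iff]
      exact ⟨-1, by rw [Units.val_neg, Units.val_one, neg_smul, one_smul]; exact hval⟩
    have hne : z' ≠ 1 := by
      intro h1
      rw [h1] at hval
      obtain ⟨i⟩ := this
      have h3 := congrFun (congrFun hval i) i
      rw [Matrix.neg_apply, Subgroup.coe_one, Units.val_one, Matrix.one_apply_eq] at h3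
      exact neg_one_ne O.tc.two h3.symm
    have hsq : z' ^ 2 = 1 := by
      apply Subtype.ext
      apply Units.ext
      change ((z' : GL ι F) : Matrix ι ι F) ^ 2 = 1
      rw [hval, neg_one_sq]
    have hord : orderOf z' = 2 := by
      have : Fact (Nat.Prime 2) := ⟨Nat.prime_two⟩
      exact orderOf_eq_prime hsq hne
    have hcen : z' ∈ Subgroup.center P := by
      rw [Subgroup.mem_center_iff]
      intro g
      exact (Subtype.ext (H920.scalars_comm hzsc g)).symm
    -- the scalars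
    have hpm : ∀ x : P, ((x : GL ι F) : Matrix ι ι F) = 1 ∨ ((x : GL ι F) : Matrix ι ι F) = -1 →
        x ∈ Subgroup.zpowers z' := by
      intro x hx
      rcases hx with hx | hx
      · have : x = 1 := Subtype.ext (Units.ext hx)
        rw [this]; exact Subgroup.one_mem _
      · have : x = z' := Subtype.ext (Units.ext (hx.trans hval.symm))
        rw [this]; exact Subgroup.mem_zpowers _
    have heq : Subgroup.zpowers z' = (scalars ι F).subgroupOf P := by
      apply le_antisymm
      · rw [Subgroup.zpowers_le, Subgroup.mem_subgroupOf]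
        exact hzsc
      · intro x hx
        exact hpm x (O.ker _ (Subgroup.mem_subgroupOf.1 hx) x.2)
    have hnorm : (Subgroup.zpowers z').Normal := by rw [heq]; infer_instance
    have hco : Spor.IsoCo1 (P ⧸ Subgroup.zpowers z') := by
      obtain ⟨e⟩ := h
      exact ⟨(QuotientGroup.quotientMulEquivOfEq heq).trans e⟩
    refine H779.CoRow.co1_row O.commP z' hcen hord hco (R.subgroupOf P) ?_ ?_ ?_ ?_
    · rw [Subgroup.mem_subgroupOf, hz']; exact z.2
    · rw [Nat.card_congr (Subgroup.subgroupOfEquivOfLe hRP).toEquiv, hcardR]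
    · intro x hx hxy
      apply hpm
      refine O.tc.ker ⟨(x : GL ι F), Subgroup.mem_subgroupOf.1 hx⟩ ?_
      by_contra h0
      obtain ⟨w, hw⟩ := exists_bf_one h0
      obtain ⟨y, rfl⟩ := C.surj w
      have h1 := comm_sF C y ⟨(x : GL ι F), Subgroup.mem_subgroupOf.1 hx⟩
      rw [hw, sF_one, neg_smul, one_smul] at h1
      have h2 := hxy ⟨(y : GL ι F), hRP y.2⟩ (Subgroup.mem_subgroupOf.2 y.2)
      have h3 : ((x : GL ι F) : Matrix ι ι F) * ((y : GL ι F) : Matrix ι ι F) =
          ((y : GL ι F) : Matrix ι ι F) * ((x : GL ι F) : Matrix ι ι F) :=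
        congrArg (fun g : P => ((g : GL ι F) : Matrix ι ι F)) h2
      have h5 : ((y : GL ι F) : Matrix ι ι F) * ((x : GL ι F) : Matrix ι ι F) =
          -(((y : GL ι F) : Matrix ι ι F) * ((x : GL ι F) : Matrix ι ι F)) := by
        conv_lhs => rw [h1]
        rw [h3]
      have h6 : (2 : F) • (((y : GL ι F) : Matrix ι ι F) * ((x : GL ι F) : Matrix ι ι F)) = 0 := by
        rw [two_smul]
        nth_rewrite 1 [h5]
        exact neg_add_cancel _
      have h7 := (smul_eq_zero.1 h6).resolve_left O.tc.two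
      exact ((y : GL ι F) * (x : GL ι F)).ne_zero h7
    · intro x hx y hy
      apply hpm
      have hx' := Subgroup.mem_subgroupOf.1 hx
      have hy' := Subgroup.mem_subgroupOf.1 hy
      have h1 := comm_sF C ⟨(x : GL ι F), hx'⟩ ⟨(y : GL ι F), hy'⟩
      set c := sF F (bf (C.φ ⟨(x : GL ι F), hx'⟩) (C.φ ⟨(y : GL ι F), hy'⟩)) with hc
      have h2 : ((⁅x, y⁆ : P) : GL ι F) = (x : GL ι F) * y * ((y : GL ι F) * x)⁻¹ := by
        rw [commutatorElement_def]
        change (x : GL ι F) * y * (x : GL ι F)⁻¹ * (y : GL ι F)⁻¹ = _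
        group
      have h3 : (((⁅x, y⁆ : P) : GL ι F) : Matrix ι ι F) = c • 1 := by
        rw [h2, Units.val_mul, Units.val_mul]
        change ((x : GL ι F) : Matrix ι ι F) * ((y : GL ι F) : Matrix ι ι F) * _ = _
        have h5 : ((x : GL ι F) : Matrix ι ι F) * ((y : GL ι F) : Matrix ι ι F) =
            c • (((y : GL ι F) * (x : GL ι F) : GL ι F) : Matrix ι ι F) := by
          rw [Units.val_mul]; exact h1
        rw [h5, smul_mul_assoc, ← Units.val_mul, mul_inv_cancel, Units.val_one]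
      rcases z2 (bf (C.φ ⟨(x : GL ι F), hx'⟩) (C.φ ⟨(y : GL ι F), hy'⟩)) with h5 | h5
      · left
        rw [h3, hc, h5, sF_zero, one_smul]
      · right
        rw [h3, hc, h5, sF_one, neg_smul, one_smul]
  · have h1 := O.pow_dvd' (m := 30) (kk_le (j := 5) (by omega))
    rw [(OrdDiv.table.{u}).spor _ (.co1, 4157776806543360000) (by decide) h] at h1
    revert h1
    norm_num

theorem not_E7 [Fintype F] {p : ℕ} [Fact p.Prime] (hp2 : p ≠ 2) (hF : Fintype.card F = p) [CharP F p]
    {K : Type} [Field K] [Fintype K] (hodd : Odd (Fintype.card K))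
    (e : Nonempty (QY P ≃* ↥(Lie.chevE7.group K))) : False := by
  have h4 := O.four
  obtain ⟨s, hs, hs2, hchar⟩ := exists_odd_char K hodd
  by_cases hk4 : k = 4
  · subst hk4
    have h16 : Fintype.card ι = 16 := O.card
    by_cases hsF : (s : F) = 0
    · have hsp : p = s := (Nat.prime_dvd_prime_iff_eq Fact.out hs).1 ((CharP.cast_eq_zero_iff F p s).1 hsF)
      subst hsp
      refine H680.CSix.e7_defining (p := p) hp2 hF e ?_
      have h1 : Nat.card (QY P) ∣ Nat.card P := Subgroup.card_quotient_dvd_card _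
      have h2 : Nat.card P ∣ Nat.card (GL ι F) := Subgroup.card_subgroup_dvd_card _
      rw [← Nat.card_congr (H7.ESixRep.reind h16 F).toEquiv]
      exact h1.trans h2
    · obtain ⟨e⟩ := e
      exact not_e7_cross (K := F) hs hsF e (n := 16) le_rfl (O.pr hs hs2)
  · obtain ⟨e⟩ := e
    obtain ⟨ρ, hρ⟩ := H7.ESixRep.of_le (D := Lie.chevE7) (n := 133) (by decide) _ e
    have h1 := O.linear_deg (two_ne_of_char hs hs2) ρ hρ
    rw [Fintype.card_fin] at h1
    have h2 := N0_ge (k := k) (by omega)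
    omega

/-- **The outcome.** -/
theorem outcome [Fintype F] {p : ℕ} [Fact p.Prime] (hp2 : p ≠ 2) (hF : Fintype.card F = p) [CharP F p]
    (hcardR : Nat.card R = 2 ^ (1 + 2 * k)) (hT : IsKnownSimple' (QY P)) : ClDeg (2 ^ k) p (QY P) := by
  have h4 := O.four
  have h16 : 16 ≤ 2 ^ k := by
    calc 16 = 2 ^ 4 := by norm_num
      _ ≤ 2 ^ k := Nat.pow_le_pow_right (by norm_num) h4
  rcases even_known.{u} hT O.nonabelian (O.pow_dvd' (m := 20) (kk_le (j := 4) (by omega))) with
    h | h | ⟨s, hs, hs2, h⟩ | ⟨K, _, _, hK, e⟩ | ⟨K, _, _, hK, e⟩ | ⟨K, _, _, hK, e⟩ | h | h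
  · exact (O.not_away h).elim
  · exact (O.not_alt (p := p) h).elim
  · have h1 := O.clDeg hs hs2 h
    by_cases hsF : (s : F) = 0
    · have hsp : p = s := (Nat.prime_dvd_prime_iff_eq Fact.out hs).1 ((CharP.cast_eq_zero_iff F p s).1 hsF)
      rw [hsp]; exact h1
    · exact (H269.C6Cross.cross h16 hs hs2 h1 hsF (O.pr hs hs2)).elim
  · exact (O.not_E7 hp2 hF hK e).elim
  · exact (O.not_F4 hK e).elim
  · exact (O.not_E6 hK e).elim
  · exact (O.not_Co1 hcardR h).elim
  · exact (O.not_B h).elim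

end Over

end Cfsg.Agent.H888.C6
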