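import Cfsg.Agent.H888.C6.PCore
import Cfsg.Agent.H888.C6.FT

/-!
# The group `Y` modulo scalars (helper888)

`YCore.big` : `R` modulo scalars is a normal elementary abelian subgroup of `Y` modulo scalars, irreducible, and every
nontrivial character has at least `(n + 1) (n - 2) / 2` conjugates, `n = 2 ^ k`.
-/

set_option autoImplicit false

namespace Cfsg.Agent.H888.C6

open Cfsg Cfsg.Geo Matrix Cfsg.Agent.ClassicalGeometry.SympBasic Cfsg.Agent.H920
open scoped commutatorElement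

variable {ι : Type} [Fintype ι] [DecidableEq ι] {F : Type*} [Field F] {R : Subgroup (GL ι F)} {k : ℕ}

instance scalars_sub_normal (Y : Subgroup (GL ι F)) : ((scalars ι F).subgroupOf Y).Normal := by
  constructor
  intro z hz y
  rw [Subgroup.mem_subgroupOf] at hz ⊢
  rw [Subgroup.coe_mul, Subgroup.coe_mul, Subgroup.coe_inv, ← scalars_comm hz, mul_inv_cancel_right]
  exact hz

/-- `Y` modulo scalars -/
abbrev QY (Y : Subgroup (GL ι F)) : Type _ := ↥Y ⧸ (scalars ι F).subgroupOf Y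

/-- the class of an element -/
abbrev mkY (Y : Subgroup (GL ι F)) : ↥Y →* QY Y := QuotientGroup.mk' _

theorem mkY_eq_one {Y : Subgroup (GL ι F)} {y : Y} : mkY Y y = 1 ↔ (y : GL ι F) ∈ scalars ι F := by
  rw [QuotientGroup.mk'_apply, QuotientGroup.eq_one_iff, Subgroup.mem_subgroupOf]

theorem mkY_eq {Y : Subgroup (GL ι F)} {y z : Y} : mkY Y y = mkY Y z ↔ (y : GL ι F) * (z : GL ι F)⁻¹ ∈ scalars ι F := by
  rw [← mul_inv_eq_one, ← map_inv, ← map_mul, mkY_eq_one, Subgroup.coe_mul, Subgroup.coe_inv]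

/-- `R` modulo scalars -/
def AY (R Y : Subgroup (GL ι F)) : Subgroup (QY Y) := (R.subgroupOf Y).map (mkY Y)

theorem mem_AY {Y : Subgroup (GL ι F)} {a : QY Y} : a ∈ AY R Y ↔ ∃ y : Y, (y : GL ι F) ∈ R ∧ mkY Y y = a := by
  unfold AY
  rw [Subgroup.mem_map]
  exact Iff.rfl

/-- the half of `(n + 1) (n - 2)`, `n = 2 ^ k`. -/
def N0 (k : ℕ) : ℕ := 2 ^ (2 * k - 1) - 2 ^ (k - 1) - 1

theorem N0_le {k m : ℕ} (hk : 1 ≤ k) (h : 2 ^ (2 * k) ≤ 2 * m + 2 ^ k) : N0 k ≤ m := by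
  unfold N0
  have h1 : 2 ^ (2 * k) = 2 * 2 ^ (2 * k - 1) := by
    rw [← pow_succ']; congr 1; omega
  have h3 : 2 ^ k = 2 * 2 ^ (k - 1) := by
    rw [← pow_succ']; congr 1; omega
  omega

theorem N0_le' {k m : ℕ} (hk : 1 ≤ k) (h : 2 ^ (2 * k) ≤ 2 * (m + 1) + 2 ^ k) : N0 k ≤ m := by
  unfold N0
  have h1 : 2 ^ (2 * k) = 2 * 2 ^ (2 * k - 1) := by
    rw [← pow_succ']; congr 1; omega
  have h3 : 2 ^ k = 2 * 2 ^ (k - 1) := by
    rw [← pow_succ']; congr 1; omega
  omega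

theorem two_N0 {k : ℕ} (hk : 2 ≤ k) : 2 * N0 k = (2 ^ k + 1) * (2 ^ k - 2) := by
  unfold N0
  have h1 : 2 ^ (2 * k) = 2 * 2 ^ (2 * k - 1) := by
    rw [← pow_succ']; congr 1; omega
  have h3 : 2 ^ k = 2 * 2 ^ (k - 1) := by
    rw [← pow_succ']; congr 1; omega
  have h4 : 2 ^ (2 * k) = 2 ^ k * 2 ^ k := by rw [two_mul, pow_add]
  have h5 : 4 ≤ 2 ^ k := by
    calc 4 = 2 ^ 2 := by norm_num
      _ ≤ 2 ^ k := Nat.pow_le_pow_right (by norm_num) hk
  obtain ⟨m, hm⟩ : ∃ m, 2 ^ k = m + 2 := ⟨2 ^ k - 2, by omega⟩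
  have h6 : (2 ^ k + 1) * (2 ^ k - 2) = 2 ^ (2 * k) - 2 ^ k - 2 := by
    rw [h4, hm]
    have : (m + 2) * (m + 2) = (m + 2 + 1) * (m + 2 - 2) + (m + 2) + 2 := by
      rw [Nat.add_sub_cancel]; ring
    omega
  omega

section

variable {C : Coord R 2 k} {q : V2 k → ZMod 2} {Y : Subgroup (GL ι F)}

instance AY_normal [Fact (R ≤ Y ∧ Y ≤ subgroupNormalizer R)] : (AY R Y).Normal := by
  have h : R ≤ Y ∧ Y ≤ subgroupNormalizer R := Fact.out
  constructor
  intro a ha g
  obtain ⟨x, hx, rfl⟩ := mem_AY.1 ha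
  obtain ⟨y, rfl⟩ := QuotientGroup.mk'_surjective _ g
  refine mem_AY.2 ⟨y * x * y⁻¹, ?_, by rw [map_mul, map_mul, map_inv]⟩
  have h1 := h.2 y.2
  rw [subgroupNormalizer, Subgroup.mem_normalizer_iff] at h1
  exact (h1 x).1 hx

theorem YCore.fact (hY : YCore C q Y) : Fact (R ≤ Y ∧ Y ≤ subgroupNormalizer R) := ⟨⟨hY.le, hY.norm⟩⟩

/-- coordinates of `A` -/
theorem exists_e (C : Coord R 2 k) (hRY : R ≤ Y) : ∃ e : AY R Y → V2 k,
    (∀ (x : R) (h : mkY Y ⟨x, hRY x.2⟩ ∈ AY R Y), e ⟨_, h⟩ = C.φ x) ∧ (∀ a b, e (a * b) = e a + e b) ∧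
      Function.Bijective e := by
  have hex : ∀ a : AY R Y, ∃ x : R, mkY Y ⟨x, hRY x.2⟩ = a := by
    rintro ⟨a, ha⟩
    obtain ⟨y, hy, rfl⟩ := mem_AY.1 ha
    exact ⟨⟨y, hy⟩, rfl⟩
  choose f hf using hex
  have hwell : ∀ x x' : R, mkY Y ⟨x, hRY x.2⟩ = mkY Y ⟨x', hRY x'.2⟩ ↔ C.φ x = C.φ x' := by
    intro x x'
    rw [mkY_eq]
    change (x : GL ι F) * (x' : GL ι F)⁻¹ ∈ scalars ι F ↔ _
    have h1 : (x : GL ι F) * (x' : GL ι F)⁻¹ = ((x * x'⁻¹ : R) : GL ι F) := by
      rw [Subgroup.coe_mul, Subgroup.coe_inv]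
    rw [h1, ← C.ker_iff, C.map_mul, φ_neg_eq]
    exact ⟨fun h => v2_eq_of_add h, fun h => by rw [h, v2_two]⟩
  refine ⟨fun a => C.φ (f a), ?_, ?_, ?_, ?_⟩
  · intro x h
    exact (hwell _ _).1 (hf ⟨_, h⟩)
  · intro a b
    rw [← C.map_mul]
    apply (hwell _ _).1
    rw [hf]
    have : mkY Y ⟨((f a * f b : R) : GL ι F), hRY (f a * f b).2⟩ =
      mkY Y ⟨f a, hRY (f a).2⟩ * mkY Y ⟨f b, hRY (f b).2⟩ := by
      rw [← map_mul]; rfl
    rw [this, hf, hf]; rfl
  · intro a b hab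
    have := (hwell _ _).2 hab
    rw [hf, hf] at this
    exact Subtype.ext this
  · intro v
    obtain ⟨x, rfl⟩ := C.surj v
    refine ⟨⟨mkY Y ⟨x, hRY x.2⟩, mem_AY.2 ⟨⟨x, hRY x.2⟩, x.2, rfl⟩⟩, ?_⟩
    exact (hwell _ _).1 (hf _)

theorem card_AY (C : Coord R 2 k) (hRY : R ≤ Y) : Nat.card (AY R Y) = 2 ^ (2 * k) := by
  obtain ⟨e, -, -, he⟩ := exists_e C hRY
  rw [Nat.card_congr (Equiv.ofBijective e he), Nat.card_eq_fintype_card, card_v2]

/-- additive maps to `ZMod 2` are given by the form -/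
theorem exists_bf_repr (f : V2 k → ZMod 2) (hf : ∀ v w, f (v + w) = f v + f w) : ∃ u, ∀ v, f v = bf v u := by
  let g : V2 k →ₗ[ZMod 2] ZMod 2 :=
    { toFun := f
      map_add' := hf
      map_smul' := fun c v => by
        rw [RingHom.id_apply]
        rcases z2 c with rfl | rfl
        · rw [zero_smul, zero_smul]
          have := hf 0 0
          rw [add_zero] at this
          exact (left_eq_add.1 this)
        · rw [one_smul, one_smul] }
  let u : V2 k := Sum.elim (fun i => g (Pi.single (Sum.inr i) 1)) (fun i => g (Pi.single (Sum.inl i) 1))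
  refine ⟨u, fun v => ?_⟩
  have h1 : g = (sympBilin k (ZMod 2)).flip u := by
    apply LinearMap.pi_ext'
    intro j
    ext
    change g (Pi.single j 1) = bf (Pi.single j 1) u
    rcases j with i | i
    · rw [bf, sympForm_single_inl_left]
      change _ = - (g (Pi.single (Sum.inl i) 1))
      exact (neg_eq_of_add_eq_zero_left (z2_two _)).symm
    · rw [bf, sympForm_single_inr_left]; rfl
  exact congrArg (fun h : V2 k →ₗ[ZMod 2] ZMod 2 => h v) h1

theorem YCore.big [Finite F] [Nonempty ι] (T : TC C q) (hk : 3 ≤ k) (hY : YCore C q Y) :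
    haveI := hY.fact
    Big (AY R Y) (N0 k) := by
  classical
  haveI := hY.fact
  have hq := T.isQ
  obtain ⟨e, he1, he2, he3⟩ := exists_e C hY.le
  have heq1 : e 1 = 0 := by
    have := he2 1 1
    rw [mul_one] at this
    exact (left_eq_add.1 this)
  have hmem : ∀ x : R, mkY Y ⟨x, hY.le x.2⟩ ∈ AY R Y := fun x => mem_AY.2 ⟨_, x.2, rfl⟩
  have hrep : ∀ a : AY R Y, ∃ x : R, a = ⟨mkY Y ⟨x, hY.le x.2⟩, hmem x⟩ := by
    rintro ⟨a, ha⟩
    obtain ⟨y, hy, rfl⟩ := mem_AY.1 ha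
    exact ⟨⟨y, hy⟩, rfl⟩
  have hcomm : ∀ a b : AY R Y, a * b = b * a := by
    intro a b
    apply he3.1
    rw [he2, he2, add_comm]
  -- conjugation
  have hconj : ∀ A ∈ Wq q, ∃ y : QY Y, ∀ a : AY R Y, e (MulAut.conjNormal y a) = ac A (e a) := by
    intro A hA
    obtain ⟨g, hg, hi⟩ := hY.ind A hA
    refine ⟨mkY Y ⟨g, hg⟩, fun a => ?_⟩
    obtain ⟨x, rfl⟩ := hrep a
    obtain ⟨x', h1, h3⟩ := hi x
    have h4 : MulAut.conjNormal (mkY Y ⟨g, hg⟩) ⟨mkY Y ⟨x, hY.le x.2⟩, hmem x⟩ =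
        (⟨mkY Y ⟨x', hY.le x'.2⟩, hmem x'⟩ : AY R Y) := by
      apply Subtype.ext
      rw [MulAut.conjNormal_apply]
      change mkY Y ⟨g, hg⟩ * mkY Y ⟨x, hY.le x.2⟩ * (mkY Y ⟨g, hg⟩)⁻¹ = mkY Y ⟨x', hY.le x'.2⟩
      rw [← map_inv, ← map_mul, ← map_mul]
      congr 1
      exact Subtype.ext h1
    rw [h4, he1, he1, h3]
    rfl
  refine ⟨inferInstance, hcomm, ?_, ?_, ?_⟩
  · intro a
    apply he3.1
    rw [he2, v2_two, heq1]
  · intro B hBA hB
    by_cases hbot : B = ⊥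
    · exact Or.inl hbot
    right
    obtain ⟨⟨b, hb⟩, hb1⟩ := Subgroup.ne_bot_iff_exists_ne_one.1 hbot
    apply le_antisymm hBA
    intro a ha
    have := hY.irr hq hk {v | ∃ c : AY R Y, (c : QY Y) ∈ B ∧ e c = v} ?_ ?_ ?_ (e ⟨a, ha⟩)
    · obtain ⟨c, hc, hc'⟩ := this
      have h1 := he3.1 hc'
      rw [h1] at hc
      exact hc
    · rintro _ ⟨c, hc, rfl⟩ _ ⟨d, hd, rfl⟩
      exact ⟨c * d, Subgroup.mul_mem _ hc hd, he2 _ _⟩
    · rintro A hA _ ⟨c, hc, rfl⟩
      obtain ⟨y, hy⟩ := hconj A hA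
      refine ⟨MulAut.conjNormal y c, ?_, hy c⟩
      rw [MulAut.conjNormal_apply]
      exact hB y c hc
    · refine ⟨e ⟨b, hBA hb⟩, ⟨⟨b, hBA hb⟩, hb, rfl⟩, ?_⟩
      intro h0
      apply hb1
      rw [← heq1] at h0
      have := congrArg Subtype.val (he3.1 h0)
      exact Subtype.ext this
  · intro lam hlam
    -- the vector of lam
    let einv : V2 k → AY R Y := (Equiv.ofBijective e he3).symm
    have hee : ∀ v, e (einv v) = v := fun v => (Equiv.ofBijective e he3).apply_symm_apply v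
    have hee' : ∀ a, einv (e a) = a := fun a => (Equiv.ofBijective e he3).symm_apply_apply a
    let s : ℤˣ → ZMod 2 := fun u => if u = 1 then 0 else 1
    have hs : ∀ u w, s (u * w) = s u + s w := by decide
    have hsinj : Function.Injective s := by
      intro u w
      revert u w
      decide
    obtain ⟨u, hu⟩ := exists_bf_repr (k := k) (fun v => s (lam (einv v))) (by
      intro v w
      have : einv (v + w) = einv v * einv w := he3.1 (by rw [hee, he2, hee, hee])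
      rw [this, map_mul, hs])
    have hlam' : ∀ a, s (lam a) = bf (e a) u := by
      intro a
      have := hu (e a)
      rw [hee'] at this
      exact this
    have hu0 : u ≠ 0 := by
      rintro rfl
      apply hlam
      ext a
      have h1 : s (lam a) = s 1 := by rw [hlam', bf_zero_right]; rfl
      rw [hsinj h1]; rfl
    -- the orbit
    have horb : ∀ u', u' ≠ 0 → q u' = q u → ∃ mu ∈ orbSet (AY R Y) lam, ∀ a, s (mu a) = bf (e a) u' := by
      intro u' hu' hqu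
      obtain ⟨A, hA, hA'⟩ := hq.Wq_trans hk hu' hu0 hqu
      obtain ⟨y, hy⟩ := hconj A hA
      refine ⟨_, ⟨y, rfl⟩, fun a => ?_⟩
      change s (lam (MulAut.conjNormal y a)) = _
      rw [hlam', hy, ← hA', ac_bf]
    choose! mu hmu hmu' using horb
    have hfin : Finite (AY R Y →* ℤˣ) := by
      haveI : Finite (AY R Y) := inferInstance
      exact Finite.of_injective (fun f : AY R Y →* ℤˣ => (f : AY R Y → ℤˣ)) DFunLike.coe_injective
    have hcard : Fintype.card {v : V2 k // v ≠ 0 ∧ q v = q u} ≤ (orbSet (AY R Y) lam).ncard := by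
      rw [← Nat.card_eq_fintype_card]
      change _ ≤ Nat.card (orbSet (AY R Y) lam)
      apply Nat.card_le_card_of_injective (fun v : {v : V2 k // v ≠ 0 ∧ q v = q u} =>
        (⟨mu v.1, hmu _ v.2.1 v.2.2⟩ : orbSet (AY R Y) lam))
      intro v w hvw
      have h1 : mu v.1 = mu w.1 := congrArg Subtype.val hvw
      apply Subtype.ext
      apply v2_eq_of_add
      by_contra hne
      obtain ⟨x, hx⟩ := exists_bf_one hne
      have h3 := hmu' _ v.2.1 v.2.2 (einv x)
      have h4 := hmu' _ w.2.1 w.2.2 (einv x)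
      rw [h1, h4, hee] at h3
      rw [bf_add_right, h3, z2_two] at hx
      exact z2_ne hx.symm
    refine le_trans ?_ hcard
    rcases z2 (q u) with h | h
    · apply N0_le' (by omega)
      have h1 := hq.two_card_zero
      have h3 : Fintype.card {v : V2 k // q v = 0} = Fintype.card {v : V2 k // v ≠ 0 ∧ q v = q u} + 1 := by
        have h4 : Fintype.card {v : V2 k // v ≠ 0 ∧ q v = q u} = Fintype.card {v : {v : V2 k // q v = 0} // v ≠ ⟨0, hq.zero⟩} := by
          apply Fintype.card_congr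
          exact
            { toFun := fun v => ⟨⟨v.1, by rw [v.2.2, h]⟩, fun h0 => v.2.1 (congrArg Subtype.val h0)⟩
              invFun := fun v => ⟨v.1.1, fun h0 => v.2 (Subtype.ext h0), by rw [v.1.2, h]⟩
              left_inv := fun v => rfl
              right_inv := fun v => rfl }
        rw [h4, Fintype.card_subtype_compl, Fintype.card_subtype_eq]
        have : 0 < Fintype.card {v : V2 k // q v = 0} := Fintype.card_pos_iff.2 ⟨⟨0, hq.zero⟩⟩
        omega
      rw [h3] at h1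
      exact h1
    · apply N0_le (by omega)
      have h1 := hq.two_card_one
      have h3 : Fintype.card {v : V2 k // q v = 1} = Fintype.card {v : V2 k // v ≠ 0 ∧ q v = q u} := by
        apply Fintype.card_congr
        exact
          { toFun := fun v => ⟨v.1, hq.ne_zero v.2, by rw [v.2, h]⟩
            invFun := fun v => ⟨v.1, by rw [v.2.2, h]⟩
            left_inv := fun v => rfl
            right_inv := fun v => rfl }
      rw [h3] at h1
      exact h1

end

end Cfsg.Agent.H888.C6
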