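import Cfsg.Agent.H888.C6.Inv

/-!
# Reduction, part 1 (helper888)

`scalar_or_absIrr` : a group normalised by `Y` is scalar or absolutely irreducible.
`mem_of_commutes` : an element commuting with `R` modulo scalars is a multiple of an element of `R`.
`norm_of_abelian` : a non-scalar normal subgroup of `H ≥ Y`, abelian modulo scalars, forces `H ≤ N(R)`.
-/

set_option autoImplicit false

namespace Cfsg.Agent.H888.C6

open Cfsg Cfsg.Geo Matrix Cfsg.Agent.ClassicalGeometry.SympBasic Cfsg.Agent.H920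
open scoped commutatorElement

variable {ι : Type} [Fintype ι] [DecidableEq ι] {F : Type*} [Field F] {R : Subgroup (GL ι F)} {k : ℕ}
variable {C : Coord R 2 k} {q : V2 k → ZMod 2} {Y : Subgroup (GL ι F)}

theorem conj_adjoin {N : Subgroup (GL ι F)} {g : GL ι F} (h : ∀ x ∈ N, g * x * g⁻¹ ∈ N) {M : Matrix ι ι F}
    (hM : M ∈ Algebra.adjoin F (matrixSet N)) :
    (g : Matrix ι ι F) * M * ((g⁻¹ : GL ι F) : Matrix ι ι F) ∈ Algebra.adjoin F (matrixSet N) := by
  induction hM using Algebra.adjoin_induction with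
  | mem M hM =>
    obtain ⟨x, hx, rfl⟩ := hM
    apply Algebra.subset_adjoin
    exact ⟨g * x * g⁻¹, h x hx, by simp only [Units.val_mul]⟩
  | algebraMap c =>
    have : (g : Matrix ι ι F) * (algebraMap F (Matrix ι ι F) c) * ((g⁻¹ : GL ι F) : Matrix ι ι F) =
        algebraMap F (Matrix ι ι F) c := by
      rw [← Algebra.commutes, Matrix.mul_assoc, ← Units.val_mul, mul_inv_cancel, Units.val_one, Matrix.mul_one]
    rw [this]
    exact Subalgebra.algebraMap_mem _ c
  | add x y _ _ hx hy =>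
    rw [Matrix.mul_add, Matrix.add_mul]
    exact Subalgebra.add_mem _ hx hy
  | mul x y _ _ hx hy =>
    have : (g : Matrix ι ι F) * (x * y) * ((g⁻¹ : GL ι F) : Matrix ι ι F) =
        ((g : Matrix ι ι F) * x * ((g⁻¹ : GL ι F) : Matrix ι ι F)) *
          ((g : Matrix ι ι F) * y * ((g⁻¹ : GL ι F) : Matrix ι ι F)) := by
      have h1 : ((g⁻¹ : GL ι F) : Matrix ι ι F) * (g : Matrix ι ι F) = 1 := by
        rw [← Units.val_mul, inv_mul_cancel]; rfl
      calc (g : Matrix ι ι F) * (x * y) * ((g⁻¹ : GL ι F) : Matrix ι ι F)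
          = (g : Matrix ι ι F) * x * 1 * y * ((g⁻¹ : GL ι F) : Matrix ι ι F) := by
            rw [Matrix.mul_one]; simp only [Matrix.mul_assoc]
        _ = _ := by rw [← h1]; simp only [Matrix.mul_assoc]
    rw [this]
    exact Subalgebra.mul_mem _ hx hy

/-- invariant families of vectors -/
theorem YCore.conj_EE (T : TC C q) {g : GL ι F} {A : Sp2 k} (hi : C.Ind g (sm A)) (v : V2 k) :
    ∃ a : ZMod 2, (g : Matrix ι ι F) * EE C v * ((g⁻¹ : GL ι F) : Matrix ι ι F) = sF F a • EE C (ac A v) := by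
  obtain ⟨x', h1, h3⟩ := hi (lft C v)
  rw [φ_lft] at h3
  obtain ⟨a, ha⟩ := T.exists_smul_EE x'
  refine ⟨a, ?_⟩
  have h4 : (g : Matrix ι ι F) * EE C v * ((g⁻¹ : GL ι F) : Matrix ι ι F) = ((x' : GL ι F) : Matrix ι ι F) := by
    rw [← h1, Units.val_mul, Units.val_mul]; rfl
  rw [h4, ha, h3]
  rfl

theorem sF_ne (a : ZMod 2) : sF F a ≠ 0 := by
  intro h
  have := sF_sq (F := F) a
  rw [h, zero_mul] at this
  exact zero_ne_one this

/-- **A group normalised by `Y` is scalar or absolutely irreducible.** -/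
theorem YCore.scalar_or_absIrr [Nonempty ι] (T : TC C q) (hk : 3 ≤ k) (hY : YCore C q Y)
    (habs : ActsAbsolutelyIrreducibly (matrixSet R)) (N : Subgroup (GL ι F)) (hN : ∀ y ∈ Y, ∀ x ∈ N, y * x * y⁻¹ ∈ N) :
    N ≤ scalars ι F ∨ ActsAbsolutelyIrreducibly (matrixSet N) := by
  classical
  set 𝒜 := Algebra.adjoin F (matrixSet N) with h𝒜
  have hconj : ∀ y ∈ Y, ∀ M ∈ 𝒜, (y : Matrix ι ι F) * M * ((y⁻¹ : GL ι F) : Matrix ι ι F) ∈ 𝒜 :=
    fun y hy M hM => conj_adjoin (hN y hy) hM
  have hcmp : ∀ M ∈ 𝒜, ∀ v, cmp C M v ∈ 𝒜 := fun M hM v =>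
    cmp_mem C (U := Subalgebra.toSubmodule 𝒜) (fun x hx M hM => hconj x (hY.le hx) M hM) hM v
  by_cases hS : ∃ v, v ≠ 0 ∧ EE C v ∈ 𝒜
  · right
    have hall : ∀ v, EE C v ∈ 𝒜 := by
      apply hY.irr T.isQ hk {v | EE C v ∈ 𝒜}
      · intro v hv w hw
        obtain ⟨a, ha⟩ := T.EE_mul v w
        have h1 : EE C (v + w) = sF F a • (EE C v * EE C w) := by rw [ha, smul_smul, sF_sq, one_smul]
        change EE C (v + w) ∈ 𝒜
        rw [h1]
        exact Subalgebra.smul_mem _ (Subalgebra.mul_mem _ hv hw) _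
      · intro A hA v hv
        obtain ⟨g, hg, hi⟩ := hY.ind A hA
        obtain ⟨a, ha⟩ := YCore.conj_EE T hi v
        have h1 : EE C (ac A v) = sF F a • ((g : Matrix ι ι F) * EE C v * ((g⁻¹ : GL ι F) : Matrix ι ι F)) := by
          rw [ha, smul_smul, sF_sq, one_smul]
        change EE C (ac A v) ∈ 𝒜
        rw [h1]
        exact Subalgebra.smul_mem _ (hconj g hg _ hv) _
      · obtain ⟨v, hv0, hv⟩ := hS
        exact ⟨v, hv, hv0⟩
    have hR𝒜 : ∀ x ∈ R, (x : Matrix ι ι F) ∈ 𝒜 := by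
      intro x hx
      obtain ⟨a, ha⟩ := T.exists_smul_EE ⟨x, hx⟩
      change (x : Matrix ι ι F) = _ at ha
      rw [ha]
      exact Subalgebra.smul_mem _ (hall _) _
    constructor
    · intro W hW
      apply habs.1
      have key : ∀ M ∈ 𝒜, W.map (Matrix.toLin' M) ≤ W := by
        intro M hM
        induction hM using Algebra.adjoin_induction with
        | mem M hM => exact hW M hM
        | algebraMap c =>
          rintro _ ⟨w, hw, rfl⟩
          rw [Matrix.toLin'_apply, Algebra.algebraMap_eq_smul_one, Matrix.smul_mulVec, Matrix.one_mulVec]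
          exact W.smul_mem c hw
        | add x y _ _ hx hy =>
          rintro _ ⟨w, hw, rfl⟩
          rw [Matrix.toLin'_apply, Matrix.add_mulVec]
          exact W.add_mem (hx ⟨w, hw, rfl⟩) (hy ⟨w, hw, rfl⟩)
        | mul x y _ _ hx hy =>
          rintro _ ⟨w, hw, rfl⟩
          rw [Matrix.toLin'_apply, ← Matrix.mulVec_mulVec]
          exact hx ⟨_, hy ⟨w, hw, rfl⟩, rfl⟩
      rintro _ ⟨x, hx, rfl⟩
      exact key _ (hR𝒜 x hx)
    · intro M hM
      apply habs.2
      have key : ∀ X ∈ 𝒜, M * X = X * M := by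
        intro X hX
        induction hX using Algebra.adjoin_induction with
        | mem X hX => exact hM X hX
        | algebraMap c => exact (Algebra.commutes c M).symm
        | add x y _ _ hx hy => rw [Matrix.mul_add, Matrix.add_mul, hx, hy]
        | mul x y _ _ hx hy => rw [← Matrix.mul_assoc, hx, Matrix.mul_assoc, hy, Matrix.mul_assoc]
      rintro _ ⟨x, hx, rfl⟩
      exact key _ (hR𝒜 x hx)
  · left
    push Not at hS
    intro x hx
    rw [mem_scalars_iff]
    have hx𝒜 : (x : Matrix ι ι F) ∈ 𝒜 := Algebra.subset_adjoin ⟨x, hx, rfl⟩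
    have h0 : ∀ v, v ≠ 0 → cmp C (x : Matrix ι ι F) v = 0 := by
      intro v hv
      obtain ⟨c, hc⟩ := T.cmp_eq habs (x : Matrix ι ι F) v
      by_contra hne
      have hc0 : c ≠ 0 := by rintro rfl; rw [zero_smul] at hc; exact hne hc
      apply hS v hv
      have h1 := hcmp _ hx𝒜 v
      rw [hc] at h1
      have h3 := Subalgebra.smul_mem _ h1 c⁻¹
      rwa [smul_smul, inv_mul_cancel₀ hc0, one_smul] at h3
    have h1 := T.sum_cmp (x : Matrix ι ι F)
    rw [Finset.sum_eq_single (0 : V2 k) (fun v _ hv => h0 v hv) (fun h => absurd (Finset.mem_univ _) h)] at h1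
    obtain ⟨c, hc⟩ := T.cmp_eq habs (x : Matrix ι ι F) 0
    rw [hc] at h1
    have h3 : ∃ d : F, (x : Matrix ι ι F) = d • 1 := by
      rcases T.ker (lft C 0) (φ_lft C 0) with h | h
      · exact ⟨c, by rw [← h1, EE, h]⟩
      · exact ⟨-c, by rw [← h1, EE, h, smul_neg, neg_smul]⟩
    obtain ⟨d, hd⟩ := h3
    have hd0 : d ≠ 0 := by
      rintro rfl
      rw [zero_smul] at hd
      exact x.ne_zero hd
    exact ⟨Units.mk0 d hd0, hd⟩

/-- An element commuting with `R` modulo scalars is a multiple of an element of `R`. -/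
theorem TC.mem_of_commutes [Nonempty ι] (T : TC C q) (habs : ActsAbsolutelyIrreducibly (matrixSet R)) {y : GL ι F}
    (hy : ∀ x ∈ R, x * y * x⁻¹ * y⁻¹ ∈ scalars ι F) : ∃ (x : R) (z : GL ι F), z ∈ scalars ι F ∧ y = z * x := by
  have h1 : ∀ w : V2 k, ∃ c : F, EE C w * (y : Matrix ι ι F) = c • ((y : Matrix ι ι F) * EE C w) := by
    intro w
    obtain ⟨c, hc⟩ := (mem_scalars_iff _).1 (hy _ (lft C w).2)
    refine ⟨c, ?_⟩
    have h3 : (lft C w : GL ι F) * y = ((lft C w : GL ι F) * y * (lft C w : GL ι F)⁻¹ * y⁻¹) * (y * lft C w) := by group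
    have h4 := congrArg (fun g : GL ι F => (g : Matrix ι ι F)) h3
    simp only [Units.val_mul] at h4 hc
    rw [hc, Matrix.smul_mul, Matrix.one_mul] at h4
    exact h4
  choose c hc using h1
  have hyn : (y : Matrix ι ι F) ≠ 0 := y.ne_zero
  have hne : ∀ w, (y : Matrix ι ι F) * EE C w ≠ 0 := by
    intro w h0
    apply hyn
    calc (y : Matrix ι ι F) = (y : Matrix ι ι F) * EE C w * EI C w := by rw [Matrix.mul_assoc, EE_EI, Matrix.mul_one]
      _ = 0 := by rw [h0, Matrix.zero_mul]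
  have hmul : ∀ v w, c (v + w) = c v * c w := by
    intro v w
    obtain ⟨a, ha⟩ := T.EE_mul v w
    have h3 : EE C (v + w) = sF F a • (EE C v * EE C w) := by rw [ha, smul_smul, sF_sq, one_smul]
    have h4 := hc (v + w)
    rw [h3, Matrix.smul_mul, Matrix.mul_smul, Matrix.mul_assoc, hc w, Matrix.mul_smul, ← Matrix.mul_assoc, hc v,
      Matrix.smul_mul, smul_smul, smul_smul, smul_smul, Matrix.mul_assoc] at h4
    have h5 : (y : Matrix ι ι F) * (EE C v * EE C w) ≠ 0 := by
      rw [ha, Matrix.mul_smul]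
      exact smul_ne_zero (sF_ne a) (hne _)
    have h6 := sub_eq_zero.2 h4
    rw [← sub_smul] at h6
    have h7 := sub_eq_zero.1 ((smul_eq_zero.1 h6).resolve_right h5)
    have h8 : sF F a * (c w * c v) = sF F a * c (v + w) := by linear_combination h7
    rw [← mul_left_cancel₀ (sF_ne a) h8, mul_comm]
  have hc0 : c 0 = 1 := by
    have h3 := hmul 0 0
    rw [add_zero] at h3
    have h4 : c 0 ≠ 0 := by
      intro h0
      have h5 := hc 0
      rw [h0, zero_smul] at h5
      apply hyn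
      calc (y : Matrix ι ι F) = EI C 0 * (EE C 0 * (y : Matrix ι ι F)) := by
            rw [← Matrix.mul_assoc, EI_EE, Matrix.one_mul]
        _ = 0 := by rw [h5, Matrix.mul_zero]
    exact (mul_right_cancel₀ h4 (by rw [one_mul]; exact h3)).symm
  have hcsq : ∀ v, c v * c v = 1 := fun v => by rw [← hmul, v2_two, hc0]
  have hsg : ∀ v, ∃ a : ZMod 2, sF F a = c v := by
    intro v
    rcases mul_self_eq_one_iff.1 (hcsq v) with h | h
    · exact ⟨0, by rw [h, sF_zero]⟩
    · exact ⟨1, by rw [h, sF_one]⟩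
  choose f hf using hsg
  obtain ⟨u, hu⟩ := exists_bf_repr f (by
    intro v w
    apply sF_inj T.two
    rw [hf, hmul, sF_mul, hf, hf])
  obtain ⟨d, hd⟩ := T.smul_of_eig habs (M := (y : Matrix ι ι F)) (v := u) (by
    intro w
    rw [hc, ← hf, hu])
  have hd0 : d ≠ 0 := by
    rintro rfl
    rw [zero_smul] at hd
    exact hyn hd
  let z : GL ι F := Units.map (Matrix.scalar ι : F →+* Matrix ι ι F).toMonoidHom (Units.mk0 d hd0)
  have hz : (z : Matrix ι ι F) = d • 1 := by
    simp [z, Matrix.smul_one_eq_diagonal]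
  refine ⟨lft C u, z, ⟨_, rfl⟩, ?_⟩
  apply Units.ext
  rw [Units.val_mul, hz, hd, Matrix.smul_mul, Matrix.one_mul]
  rfl

end Cfsg.Agent.H888.C6
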