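import Cfsg.Agent.H888.C6.Red3
import Cfsg.Agent.H919.AschWreath

/-!
# Reduction, part 4: no tensor power data; the simple core (helper888)
-/

set_option autoImplicit false

namespace Cfsg.Agent.H888.C6

open Cfsg Cfsg.Geo Matrix Cfsg.Agent.ClassicalGeometry.SympBasic Cfsg.Agent.H920 Cfsg.Agent.H919
open scoped commutatorElement

variable {ι : Type} [Fintype ι] [DecidableEq ι] {F : Type*} [Field F] {R : Subgroup (GL ι F)} {k : ℕ}
variable {C : Coord R 2 k} {q : V2 k → ZMod 2} {Y : Subgroup (GL ι F)}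

/-- the slot as a linear map -/
noncomputable def slotLin {m t : ℕ} (e : ι ≃ (Fin t → Fin m)) (P : GL ι F) (i : Fin t) :
    Matrix (Fin m) (Fin m) F →ₗ[F] Matrix ι ι F where
  toFun x := frameMat e P (slotMat i x)
  map_add' x y := by
    unfold frameMat
    rw [slotMat_add, map_add, Matrix.mul_add, Matrix.add_mul]
  map_smul' c x := by
    unfold frameMat
    rw [slotMat_smul, map_smul, Matrix.mul_smul, Matrix.smul_mul, RingHom.id_apply]

theorem YCore.no_wreath [Finite F] [Nonempty ι] (T : TC C q) (hk : 4 ≤ k) (hY : YCore C q Y)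
    (habs : ActsAbsolutelyIrreducibly (matrixSet R)) (hdim : Fintype.card ι = 2 ^ k)
    {H : Subgroup (GL ι F)} (hYH : Y ≤ H) {m t : ℕ} {e : ι ≃ (Fin t → Fin m)} {P : GL ι F}
    {E : Fin t → Subgroup (GL ι F)} (w : WreathData H m t e P E) : False := by
  classical
  haveI := hY.fact
  have hq := T.isQ
  have hmt : m ^ t = 2 ^ k := by
    rw [← hdim, Fintype.card_congr e, Fintype.card_fun, Fintype.card_fin, Fintype.card_fin]
  obtain ⟨hnum, hnum'⟩ := wreath_num hk w.two_le_m w.two_le_t hmt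
  have hbig := hY.big T (by omega)
  -- the action on the factors
  let 𝓔 : Type _ := ↥(Set.range E)
  haveI : Finite 𝓔 := inferInstance
  haveI : Fintype 𝓔 := Fintype.ofFinite 𝓔
  have hcard𝓔 : Fintype.card 𝓔 ≤ t := by
    have := Fintype.card_le_of_surjective (fun i : Fin t => (⟨E i, i, rfl⟩ : 𝓔)) (by
      rintro ⟨_, i, rfl⟩; exact ⟨i, rfl⟩)
    rwa [Fintype.card_fin] at this
  have hstab : ∀ y ∈ Y, ∀ X ∈ Set.range E, X.map (MulAut.conj y).toMonoidHom ∈ Set.range E := by
    rintro y hy _ ⟨i, rfl⟩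
    obtain ⟨σ, hσ⟩ := w.permuted y (hYH hy)
    exact ⟨σ i, (hσ i).symm⟩
  have hmapone : ∀ X : Subgroup (GL ι F), X.map (MulAut.conj (1 : GL ι F)).toMonoidHom = X := by
    intro X
    rw [map_one]
    exact Subgroup.map_id X
  have hmapmul : ∀ (a b : GL ι F) (X : Subgroup (GL ι F)),
      X.map (MulAut.conj (a * b)).toMonoidHom = (X.map (MulAut.conj b).toMonoidHom).map (MulAut.conj a).toMonoidHom := by
    intro a b X
    rw [Subgroup.map_map, map_mul]; rfl
  letI act : MulAction Y 𝓔 :=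
    { smul := fun y X => ⟨X.1.map (MulAut.conj (y : GL ι F)).toMonoidHom, hstab y y.2 X.1 X.2⟩
      one_smul := fun X => Subtype.ext (hmapone X.1)
      mul_smul := fun a b X => Subtype.ext (hmapmul a b X.1) }
  let f : Y →* Equiv.Perm 𝓔 := MulAction.toPermHom Y 𝓔
  have hfs : ∀ y ∈ (scalars ι F).subgroupOf Y, f y = 1 := by
    intro y hy
    ext1 X
    apply Subtype.ext
    change X.1.map (MulAut.conj (y : GL ι F)).toMonoidHom = X.1
    have : (MulAut.conj (y : GL ι F)) = 1 := by
      ext1 x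
      rw [MulAut.conj_apply, scalars_comm (Subgroup.mem_subgroupOf.1 hy), mul_inv_cancel_right]; rfl
    rw [this]
    exact Subgroup.map_id X.1
  let f' : QY Y →* Equiv.Perm 𝓔 := QuotientGroup.lift _ f hfs
  have hRfix : ∀ x ∈ R, ∀ i, (E i).map (MulAut.conj x).toMonoidHom = E i := by
    intro x hx i
    by_contra hne
    have h1 := hbig.perm f' ⟨mkY Y ⟨x, hY.le hx⟩, mem_AY.2 ⟨⟨x, hY.le hx⟩, hx, rfl⟩, by
      intro h1
      apply hne
      have h3 : f ⟨x, hY.le hx⟩ = 1 := h1
      have h4 := congrArg (fun g : Equiv.Perm 𝓔 => (g ⟨E i, i, rfl⟩ : 𝓔).1) h3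
      exact h4⟩
    omega
  -- the algebras
  let 𝒜 : Fin t → Subalgebra F (Matrix ι ι F) := fun i => Algebra.adjoin F (matrixSet (E i))
  have hAle : ∀ i, Module.finrank F (Subalgebra.toSubmodule (𝒜 i)) ≤ m ^ 2 := by
    intro i
    have h1 : Subalgebra.toSubmodule (𝒜 i) ≤ LinearMap.range (slotLin e P i) := by
      intro X hX
      obtain ⟨x, hx⟩ := (w.env_iff i X).1 hX
      exact ⟨x, hx.symm⟩
    calc _ ≤ Module.finrank F (LinearMap.range (slotLin e P i)) := Submodule.finrank_mono h1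
      _ ≤ Module.finrank F (Matrix (Fin m) (Fin m) F) := LinearMap.finrank_range_le _
      _ = m ^ 2 := by rw [Module.finrank_matrix, Fintype.card_fin, Module.finrank_self]; ring
  have hAR : ∀ i, ∀ x ∈ R, ∀ M ∈ Subalgebra.toSubmodule (𝒜 i),
      (x : Matrix ι ι F) * M * ((x⁻¹ : GL ι F) : Matrix ι ι F) ∈ Subalgebra.toSubmodule (𝒜 i) := by
    intro i x hx M hM
    apply conj_adjoin _ hM
    intro y hy
    rw [← hRfix x hx i]
    exact ⟨y, hy, rfl⟩
  have hcardS : ∀ i, Nat.card {v : V2 k // EE C v ∈ Subalgebra.toSubmodule (𝒜 i)} ≤ m ^ 2 := fun i => by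
    rw [T.card_vectors habs _ (hAR i)]; exact hAle i
  have h0 : ∀ i, EE C 0 ∈ Subalgebra.toSubmodule (𝒜 i) := by
    intro i
    rcases T.ker (lft C 0) (φ_lft C 0) with h | h
    · rw [EE, h]; exact Subalgebra.one_mem _
    · rw [EE, h]; exact Subalgebra.neg_mem _ (Subalgebra.one_mem _)
  -- a non-zero vector
  have ht : 0 < t := by have := w.two_le_t; omega
  let i₀ : Fin t := ⟨0, ht⟩
  obtain ⟨v₀, hv₀, hv₀'⟩ : ∃ v, v ≠ 0 ∧ EE C v ∈ Subalgebra.toSubmodule (𝒜 i₀) := by
    by_contra hcon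
    push Not at hcon
    apply w.not_scalar i₀
    intro x hx
    rw [mem_scalars_iff]
    have hx𝒜 : (x : Matrix ι ι F) ∈ Subalgebra.toSubmodule (𝒜 i₀) := Algebra.subset_adjoin ⟨x, hx, rfl⟩
    have h1 : ∀ v, v ≠ 0 → cmp C (x : Matrix ι ι F) v = 0 := by
      intro v hv
      obtain ⟨c, hc⟩ := T.cmp_eq habs (x : Matrix ι ι F) v
      by_contra hne
      have hc0 : c ≠ 0 := by rintro rfl; rw [zero_smul] at hc; exact hne hc
      apply hcon v hv
      have h1 := cmp_mem C (hAR i₀) hx𝒜 v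
      rw [hc] at h1
      have h3 := Submodule.smul_mem _ c⁻¹ h1
      rwa [smul_smul, inv_mul_cancel₀ hc0, one_smul] at h3
    have h3 := T.sum_cmp (x : Matrix ι ι F)
    rw [Finset.sum_eq_single (0 : V2 k) (fun v _ hv => h1 v hv) (fun h => absurd (Finset.mem_univ _) h)] at h3
    obtain ⟨c, hc⟩ := T.cmp_eq habs (x : Matrix ι ι F) 0
    rw [hc] at h3
    have h4 : ∃ d : F, (x : Matrix ι ι F) = d • 1 := by
      rcases T.ker (lft C 0) (φ_lft C 0) with h | h
      · exact ⟨c, by rw [← h3, EE, h]⟩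
      · exact ⟨-c, by rw [← h3, EE, h, smul_neg, neg_smul]⟩
    obtain ⟨d, hd⟩ := h4
    have hd0 : d ≠ 0 := by
      rintro rfl
      rw [zero_smul] at hd
      exact x.ne_zero hd
    exact ⟨Units.mk0 d hd0, hd⟩
  -- all vectors of the same type occur
  have hcover : ∀ v, v ≠ 0 → q v = q v₀ → ∃ i, EE C v ∈ Subalgebra.toSubmodule (𝒜 i) := by
    intro v hv hqv
    obtain ⟨A, hA, hA'⟩ := hq.Wq_trans (by omega) hv₀ hv hqv.symm
    obtain ⟨g, hg, hi⟩ := hY.ind A hA
    obtain ⟨σ, hσ⟩ := w.permuted g (hYH hg)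
    refine ⟨σ i₀, ?_⟩
    obtain ⟨a, ha⟩ := YCore.conj_EE T hi v₀
    have h1 : EE C v = sF F a • ((g : Matrix ι ι F) * EE C v₀ * ((g⁻¹ : GL ι F) : Matrix ι ι F)) := by
      rw [ha, smul_smul, sF_sq, one_smul, hA']
    rw [h1]
    apply Submodule.smul_mem
    have h3 : ∀ M ∈ 𝒜 i₀, (g : Matrix ι ι F) * M * ((g⁻¹ : GL ι F) : Matrix ι ι F) ∈ 𝒜 (σ i₀) := by
      intro M hM
      have hgg : ((g⁻¹ : GL ι F) : Matrix ι ι F) * (g : Matrix ι ι F) = 1 := by
        rw [← Units.val_mul, inv_mul_cancel]; rfl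
      induction hM using Algebra.adjoin_induction with
      | mem M hM =>
        obtain ⟨x, hx, rfl⟩ := hM
        apply Algebra.subset_adjoin
        refine ⟨g * x * g⁻¹, ?_, by simp only [Units.val_mul]⟩
        rw [← hσ]
        exact ⟨x, hx, rfl⟩
      | algebraMap c =>
        have : (g : Matrix ι ι F) * (algebraMap F (Matrix ι ι F) c) * ((g⁻¹ : GL ι F) : Matrix ι ι F) =
            algebraMap F (Matrix ι ι F) c := by
          rw [← Algebra.commutes, Matrix.mul_assoc, ← Units.val_mul, mul_inv_cancel, Units.val_one, Matrix.mul_one]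
        rw [this]
        exact Subalgebra.algebraMap_mem _ c
      | add x y _ _ hx hy =>
        rw [Matrix.mul_add, Matrix.add_mul]
        exact Subalgebra.add_mem _ hx hy
      | mul x y _ _ hx hy =>
        have : (g : Matrix ι ι F) * (x * y) * ((g⁻¹ : GL ι F) : Matrix ι ι F) =
            ((g : Matrix ι ι F) * x * ((g⁻¹ : GL ι F) : Matrix ι ι F)) *
              ((g : Matrix ι ι F) * y * ((g⁻¹ : GL ι F) : Matrix ι ι F)) := by
          calc (g : Matrix ι ι F) * (x * y) * ((g⁻¹ : GL ι F) : Matrix ι ι F)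
              = (g : Matrix ι ι F) * x * 1 * y * ((g⁻¹ : GL ι F) : Matrix ι ι F) := by
                rw [Matrix.mul_one]; simp only [Matrix.mul_assoc]
            _ = _ := by rw [← hgg]; simp only [Matrix.mul_assoc]
        rw [this]
        exact Subalgebra.mul_mem _ hx hy
    exact h3 _ hv₀'
  -- counting
  let O : Finset (V2 k) := Finset.univ.filter fun v => v ≠ 0 ∧ q v = q v₀
  have hO : N0 k ≤ O.card := by
    rcases z2 (q v₀) with h | h
    · apply N0_le' (by omega)
      have h1 := hq.two_card_zero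
      have h3 : Fintype.card {v : V2 k // q v = 0} ≤ O.card + 1 := by
        rw [Fintype.card_subtype]
        have : (Finset.univ.filter fun v : V2 k => q v = 0) ⊆ insert 0 O := by
          intro v hv
          rw [Finset.mem_filter] at hv
          rw [Finset.mem_insert]
          by_cases hv0 : v = 0
          · exact Or.inl hv0
          · right
            rw [Finset.mem_filter]
            exact ⟨Finset.mem_univ _, hv0, by rw [hv.2, h]⟩
        exact (Finset.card_le_card this).trans (Finset.card_insert_le _ _)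
      omega
    · apply N0_le (by omega)
      have h1 := hq.two_card_one
      have h3 : Fintype.card {v : V2 k // q v = 1} ≤ O.card := by
        rw [Fintype.card_subtype]
        apply Finset.card_le_card
        intro v hv
        rw [Finset.mem_filter] at hv ⊢
        exact ⟨Finset.mem_univ _, hq.ne_zero hv.2, by rw [hv.2, h]⟩
      omega
  let S : Fin t → Finset (V2 k) := fun i => Finset.univ.filter fun v => v ≠ 0 ∧ EE C v ∈ Subalgebra.toSubmodule (𝒜 i)
  have hS : ∀ i, (S i).card ≤ m ^ 2 - 1 := by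
    intro i
    have h1 : (insert 0 (S i)).card ≤ m ^ 2 := by
      refine le_trans ?_ (hcardS i)
      rw [Nat.card_eq_fintype_card, Fintype.card_subtype]
      apply Finset.card_le_card
      intro v hv
      rw [Finset.mem_insert] at hv
      rw [Finset.mem_filter]
      rcases hv with rfl | hv
      · exact ⟨Finset.mem_univ _, h0 i⟩
      · rw [Finset.mem_filter] at hv
        exact ⟨Finset.mem_univ _, hv.2.2⟩
    rw [Finset.card_insert_of_notMem (by
      intro h
      rw [Finset.mem_filter] at h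
      exact h.2.1 rfl)] at h1
    omega
  have hsub : O ⊆ Finset.univ.biUnion S := by
    intro v hv
    rw [Finset.mem_filter] at hv
    obtain ⟨i, hi⟩ := hcover v hv.2.1 hv.2.2
    rw [Finset.mem_biUnion]
    exact ⟨i, Finset.mem_univ _, Finset.mem_filter.2 ⟨Finset.mem_univ _, hv.2.1, hi⟩⟩
  have h5 : O.card ≤ t * (m ^ 2 - 1) := by
    calc O.card ≤ (Finset.univ.biUnion S).card := Finset.card_le_card hsub
      _ ≤ ∑ i, (S i).card := Finset.card_biUnion_le
      _ ≤ ∑ _i : Fin t, (m ^ 2 - 1) := Finset.sum_le_sum fun i _ => hS i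
      _ = t * (m ^ 2 - 1) := by rw [Finset.sum_const, Finset.card_univ, Fintype.card_fin, smul_eq_mul]
  omega

/-- **The simple core of an overgroup.** -/
theorem YCore.exists_coreNS [Finite F] [Nonempty ι] (T : TC C q) (hk : 4 ≤ k) (hY : YCore C q Y)
    (habs : ActsAbsolutelyIrreducibly (matrixSet R)) (hR2 : IsPGroup 2 R) (hdim : Fintype.card ι = 2 ^ k)
    {H : Subgroup (GL ι F)} (hYH : Y ≤ H) (hsc : ∀ z ∈ scalars ι F, z ∈ H → z ∈ R)
    (hH : ¬ H ≤ subgroupNormalizer R) : ∃ P : Subgroup (GL ι F), CoreNS H P := by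
  have hirr : ActsIrreducibly (matrixSet H) := by
    intro W hW
    apply habs.1
    rintro _ ⟨x, hx, rfl⟩
    exact hW _ ⟨x, hYH (hY.le hx), rfl⟩
  have hcard : 2 ≤ Fintype.card ι := by
    rw [hdim]
    calc 2 = 2 ^ 1 := by norm_num
      _ ≤ 2 ^ k := Nat.pow_le_pow_right (by norm_num) (by omega)
  rcases C_split H hirr hcard (fun N _ hN => hY.scalar_or_absIrr T (by omega) habs N (fun y hy => hN y (hYH hy))) with
    ⟨N, _, hn, hns, hcomm⟩ | ⟨m, t, e, P, E, w⟩ | h
  · exact absurd (hY.norm_of_abelian T (by omega) habs hR2 hdim hYH hn hns hcomm hsc) hH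
  · exact (hY.no_wreath T hk habs hdim hYH w).elim
  · exact h

end Cfsg.Agent.H888.C6
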