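import Cfsg.Agent.H888.C6.PlusFin
import Cfsg.Agent.H888.C6.ClDeg
import Cfsg.Agent.H742.ClOrd
import Cfsg.Agent.H931.SpProper
import Cfsg.Agent.ClassicalGeometry.SympInvolutions

/-!
# Class 6 in `Sp`, from the outcome (helper888)
-/

set_option autoImplicit false

namespace Cfsg.Agent.H888.C6

open Cfsg Cfsg.Geo Matrix Cfsg.Agent.ClassicalGeometry.SympBasic Cfsg.Agent.H920 Cfsg.Agent.H919

universe u

section sp

variable {F : Type u} [Field F] {m : ℕ}

/-- scalars in the symplectic group -/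
theorem scalar_sp (hm : 1 ≤ m) {z : GL (Fin m ⊕ Fin m) F} (hz : z ∈ scalars (Fin m ⊕ Fin m) F) (hi : z ∈ Cfsg.spGL m F) :
    (z : Matrix (Fin m ⊕ Fin m) (Fin m ⊕ Fin m) F) = 1 ∨ (z : Matrix (Fin m ⊕ Fin m) (Fin m ⊕ Fin m) F) = -1 := by
  obtain ⟨c, hc⟩ := (mem_scalars_iff _).1 hz
  have hex : ∃ v w : Fin m ⊕ Fin m → F, sympForm m F v w ≠ 0 := by
    by_contra hcon
    push Not at hcon
    have h1 : (Pi.single (Sum.inl ⟨0, hm⟩) 1 : Fin m ⊕ Fin m → F) = 0 :=
      eq_zero_of_forall_sympForm_left fun w => hcon w _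
    have := congrFun h1 (Sum.inl ⟨0, hm⟩)
    rw [Pi.single_eq_same] at this
    exact one_ne_zero this
  obtain ⟨v, w, hv⟩ := hex
  have h1 : sympForm m F ((z : Matrix (Fin m ⊕ Fin m) (Fin m ⊕ Fin m) F) *ᵥ v)
      ((z : Matrix (Fin m ⊕ Fin m) (Fin m ⊕ Fin m) F) *ᵥ w) = sympForm m F v w := hi v w
  rw [hc, Matrix.smul_mulVec, Matrix.one_mulVec, Matrix.smul_mulVec, Matrix.one_mulVec, sympForm_smul_left,
    sympForm_smul_right, ← mul_assoc] at h1
  have h2 : ((c : F) * (c : F) - 1) * sympForm m F v w = 0 := by rw [sub_mul, h1]; ring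
  have h3 : (c : F) * (c : F) = 1 := sub_eq_zero.1 ((mul_eq_zero.1 h2).resolve_right hv)
  rcases mul_self_eq_one_iff.1 h3 with h | h
  · left; rw [hc, h, one_smul]
  · right; rw [hc, h, neg_smul, one_smul]

/-- `Sp` modulo scalars is `PSp` -/
theorem card_QY_sp [Finite F] (hm : 1 ≤ m) : Nat.card (QY (Cfsg.spGL m F)) = Nat.card (PSp m F) := by
  obtain ⟨f, hf, hf'⟩ : ∃ f : Matrix.symplecticGroup (Fin m) F →* GL (Fin m ⊕ Fin m) F, (∀ A, ((f A : GL (Fin m ⊕ Fin m) F) :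
      Matrix (Fin m ⊕ Fin m) (Fin m ⊕ Fin m) F) = A) ∧ f.range = Cfsg.spGL m F :=
    ⟨H876.spToGL m F, fun A => rfl, by rw [← H931.map_spToGL_top, ← MonoidHom.range_eq_map]⟩
  have hinj : Function.Injective f := by
    intro A B h
    apply Subtype.ext
    rw [← hf, ← hf, h]
  let e : Matrix.symplecticGroup (Fin m) F ≃* Cfsg.spGL m F :=
    (MonoidHom.ofInjective hinj).trans (MulEquiv.subgroupCongr hf')
  have he : ∀ z, ((e z : Cfsg.spGL m F) : GL (Fin m ⊕ Fin m) F) = f z := fun z => rfl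
  have hmap : (Subgroup.center (Matrix.symplecticGroup (Fin m) F)).map e.toMonoidHom =
      (scalars (Fin m ⊕ Fin m) F).subgroupOf (Cfsg.spGL m F) := by
    ext x
    constructor
    · rintro ⟨z, hz, rfl⟩
      rw [Subgroup.mem_subgroupOf, mem_scalars_iff]
      rcases Cfsg.Agent.ClassicalGeometry.SympInvolutions.center_eq hz with h | h
      · exact ⟨1, by rw [Units.val_one, one_smul]; exact (hf z).trans h⟩
      · exact ⟨-1, by rw [Units.val_neg, Units.val_one, neg_smul, one_smul]; exact (hf z).trans h⟩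
    · intro hx
      refine ⟨e.symm x, ?_, e.apply_symm_apply x⟩
      rw [SetLike.mem_coe, Subgroup.mem_center_iff]
      intro g
      apply hinj
      rw [map_mul, map_mul]
      have h1 : f (e.symm x) = (x : GL (Fin m ⊕ Fin m) F) := by
        rw [← he, e.apply_symm_apply]
      rw [h1]
      exact (H920.scalars_comm (Subgroup.mem_subgroupOf.1 hx) _).symm
  exact (Nat.card_congr (QuotientGroup.congr _ _ e hmap).toEquiv).symm

end sp

/-- **Class 6 in `Sp`.** -/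
theorem max_sp {F : Type u} [Field F] [Fintype F] (m : ℕ) (hm : 7 ≤ m) (p k : ℕ) (hp : p.Prime) (hpo : Odd p)
    (hF : Fintype.card F = p) (R : Subgroup (GL (Fin m ⊕ Fin m) F)) (hR : IsSymplecticTypeGroup 2 R)
    (hirr : ActsAbsolutelyIrreducibly (matrixSet R)) (hRD : R ≤ Cfsg.spGL m F)
    (hcard : Nat.card R = 2 ^ (1 + 2 * k)) (hZ : Nat.card (Subgroup.center R) = 2)
    (hsch : ∀ P : Subgroup (GL (Fin m ⊕ Fin m) F), IsSimpleGroup (QY P) → ¬ IsMulCommutative (QY P) →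
      Schreier.Basic.Sch (QY P))
    (hout : ∀ (C : Coord R 2 k) (q : V2 k → ZMod 2) (Y P : Subgroup (GL (Fin m ⊕ Fin m) F)), Over C q Y P →
      ClDeg (2 ^ k) p (QY P))
    (hres1 : ∀ (C : Coord R 2 k) (q : V2 k → ZMod 2) (Y P : Subgroup (GL (Fin m ⊕ Fin m) F)), Over C q Y P →
      ∀ (K : Type) (_ : Field K) (_ : Fintype K), Fintype.card K = p → 2 ^ k = 2 * m →
      ¬ Nonempty (QY P ≃* POmega K (quadFormPlus m K)))
    (hres2 : ∀ (C : Coord R 2 k) (q : V2 k → ZMod 2) (Y P : Subgroup (GL (Fin m ⊕ Fin m) F)), Over C q Y P →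
      ∀ (K : Type) (_ : Field K) (_ : Fintype K) (a b : K), Fintype.card K = p → 2 ^ k = 2 * m →
      (∀ z₁ z₂ : K, z₁ ^ 2 + a * z₁ * z₂ + b * z₂ ^ 2 = 0 → z₁ = 0 ∧ z₂ = 0) →
      ¬ Nonempty (QY P ≃* POmega K (quadFormMinus (m - 1) K a b))) :
    IsMaximalIn (Cfsg.spGL m F) (subgroupNormalizer R ⊓ Cfsg.spGL m F) := by
  have hpf : Fact p.Prime := ⟨hp⟩
  have hchar : CharP F p := charP_of_card_eq_prime hF
  have hp2 : p ≠ 2 := by
    rintro rfl
    exact absurd hpo (by decide)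
  have h2 : (2 : F) ≠ 0 := by
    intro h
    have h1 : ((2 : ℕ) : F) = 0 := by exact_mod_cast h
    exact hp2 ((Nat.prime_dvd_prime_iff_eq hp Nat.prime_two).1 ((CharP.cast_eq_zero_iff F p 2).1 h1))
  have hne : Nonempty (Fin m ⊕ Fin m) := ⟨Sum.inl ⟨0, by omega⟩⟩
  have hdim0 : Fintype.card (Fin m ⊕ Fin m) = 2 ^ k := H921.card_eq_pow_of_center_prime hR hirr hZ hcard
  rw [Fintype.card_sum, Fintype.card_fin] at hdim0
  have hk4 : 4 ≤ k := by
    by_contra hlt
    have h1 : 2 ^ k ≤ 2 ^ 3 := Nat.pow_le_pow_right (by norm_num) (by omega)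
    have h3 : (2 : ℕ) ^ 3 = 8 := by norm_num
    omega
  obtain ⟨hdim, C, q, T⟩ := exists_TC h2 hR hirr hcard hZ (show 1 ≤ k by omega)
  have hpairs : PairsIn C q (Cfsg.spGL m F) := fun a b ha hb g hg v w =>
    pairsIn_form T ⟨sympForm_add_left, sympForm_smul_left, fun v x y => sympForm_add_right v x y, fun c v x => sympForm_smul_right c v x⟩ (fun x v w => hRD x.2 v w) ha hb hg v w
  obtain ⟨Y, hY, hYX, -⟩ := T.exists_Y (by omega) hRD hpairs
  have hR2 : IsPGroup 2 R := IsPGroup.of_card hcard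
  have hsc : ∀ z ∈ scalars (Fin m ⊕ Fin m) F, z ∈ Cfsg.spGL m F → (z : Matrix (Fin m ⊕ Fin m) (Fin m ⊕ Fin m) F) = 1 ∨
      (z : Matrix (Fin m ⊕ Fin m) (Fin m ⊕ Fin m) F) = -1 := fun z hz hzX => scalar_sp (by omega) hz hzX
  refine max_of T hk4 hirr hR2 hdim hY hYX hsc hsch ?_
    (not_le_norm T (by omega) hR2 hY hYX fun N hN hnorm => H931.spGL_normal (Or.inl (by omega)) hN hnorm)
  intro P hPX O
  have hm2 : 2 ^ k = 2 * m := by omega
  have hcl : ClDeg (2 * m) p (QY P) := by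
    have := hout C q Y P O
    rwa [hm2] at this
  have hm8 : 8 ≤ m := by
    have h1 : 2 ^ 4 ≤ 2 ^ k := Nat.pow_le_pow_right (by norm_num) hk4
    have h3 : (2 : ℕ) ^ 4 = 16 := by norm_num
    omega
  have hX : Nat.card (QY (Cfsg.spGL m F)) = Nat.card (PSp m F) := card_QY_sp (by omega)
  have hd : Nat.card (QY P) ∣ Nat.card (PSp m F) := by
    rw [← hX]; exact card_quot_dvd hPX
  rcases H742.ClOrd.sp_cases hp hp2 hm8 hF hcl hd with h3 | ⟨K, _, _, hK, e⟩ | ⟨K, _, _, a, b, hK, hab, e⟩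
  · refine eq_of_card_quot hPX ?_ (by rw [hX, h3])
    intro z hz hzX
    obtain ⟨w, hw⟩ := O.exists_neg
    rcases hsc z hz hzX with h | h
    · have : z = 1 := Units.ext h
      rw [this]; exact P.one_mem
    · have : z = w := Units.ext (h.trans hw.symm)
      rw [this]; exact O.le (O.yc.le w.2)
  · exact (hres1 C q Y P O K _ _ hK hm2 e).elim
  · exact (hres2 C q Y P O K _ _ a b hK hm2 hab e).elim

end Cfsg.Agent.H888.C6
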