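import Cfsg.Agent.H888.C6.SpFin
import Cfsg.Agent.H762.C6Orb
import Cfsg.Agent.H296.C6.NotOmOver

/-!
# Class 6 in `Sp`: the residual orthogonal groups (helper888)
-/

set_option autoImplicit false

namespace Cfsg.Agent.H888.C6

open Cfsg Cfsg.Geo Matrix Cfsg.Agent.ClassicalGeometry.SympBasic Cfsg.Agent.H920 Cfsg.Agent.H919

universe u

theorem two_ne_of_prime_card {K : Type} [Field K] [Fintype K] {p : ℕ} (hp : p.Prime) (hp2 : p ≠ 2)
    (hK : Fintype.card K = p) : (2 : K) ≠ 0 := by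
  have hpf : Fact p.Prime := ⟨hp⟩
  have hchar : CharP K p := charP_of_card_eq_prime hK
  intro h
  have h1 : ((2 : ℕ) : K) = 0 := by exact_mod_cast h
  exact hp2 ((Nat.prime_dvd_prime_iff_eq hp Nat.prime_two).1 ((CharP.cast_eq_zero_iff K p 2).1 h1))

/-- **Class 6 in `Sp`.** -/
theorem max_sp' {F : Type u} [Field F] [Fintype F] (m : ℕ) (hm : 7 ≤ m) (p k : ℕ) (hp : p.Prime) (hpo : Odd p)
    (hF : Fintype.card F = p) (R : Subgroup (GL (Fin m ⊕ Fin m) F)) (hR : IsSymplecticTypeGroup 2 R)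
    (hirr : ActsAbsolutelyIrreducibly (matrixSet R)) (hRD : R ≤ Cfsg.spGL m F)
    (hcard : Nat.card R = 2 ^ (1 + 2 * k)) (hZ : Nat.card (Subgroup.center R) = 2) (hminus : IsOfMinusType k R)
    (hsch : ∀ P : Subgroup (GL (Fin m ⊕ Fin m) F), IsSimpleGroup (QY P) → ¬ IsMulCommutative (QY P) →
      Schreier.Basic.Sch (QY P))
    (hout : ∀ (C : Coord R 2 k) (q : V2 k → ZMod 2) (Y P : Subgroup (GL (Fin m ⊕ Fin m) F)), Over C q Y P →
      ClDeg (2 ^ k) p (QY P)) :
    IsMaximalIn (Cfsg.spGL m F) (subgroupNormalizer R ⊓ Cfsg.spGL m F) := by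
  have hp2 : p ≠ 2 := by
    rintro rfl
    exact absurd hpo (by decide)
  refine max_sp m hm p k hp hpo hF R hR hirr hRD hcard hZ hsch hout ?_ ?_
  · rintro C q Y P O K _ _ hK hkm ⟨e⟩
    have hne := O.nonempty
    have h4 := O.four
    exact H296.C6.not_pomega_plus O (H762.C6.horb_minus O.tc (by omega) hR O.yc hminus)
      (two_ne_of_prime_card hp hp2 hK) hkm e
  · rintro C q Y P O K _ _ a b hK hkm hab ⟨e⟩
    have hne := O.nonempty
    have h4 := O.four
    exact H296.C6.not_pomega_minus O (H762.C6.horb_minus O.tc (by omega) hR O.yc hminus)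
      (two_ne_of_prime_card hp hp2 hK) hkm hab e

end Cfsg.Agent.H888.C6
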