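import Mathlib

/-!
# Simultaneous eigenvectors of commuting involutions (helper888)

* `IsWt f χ` : there is a common eigenvector with eigenvalues `χ`;
* `card_wt_le` : the number of weights of a commuting family is at most the dimension;
* `exists_wt_ne` : a commuting family of involutions (characteristic not 2) one of whose members is not `c • 1`
  has a weight with value different from `c` there.
-/

set_option autoImplicit false

namespace Cfsg.Agent.H888.C6

open Module Module.End

variable {K V ι : Type*} [Field K] [AddCommGroup V] [Module K V]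

/-- `χ` is a weight of the family `f`. -/
def IsWt (f : ι → End K V) (χ : ι → K) : Prop := ∃ v : V, v ≠ 0 ∧ ∀ i, f i v = χ i • v

theorem card_wt_le [FiniteDimensional K V] (f : ι → End K V) (hf : ∀ i j, Commute (f i) (f j))
    (S : Finset (ι → K)) (hS : ∀ χ ∈ S, IsWt f χ) : S.card ≤ finrank K V := by
  classical
  have hind := independent_iInf_maxGenEigenspace_of_forall_mapsTo f
    (fun i j φ => mapsTo_maxGenEigenspace_of_comm (hf j i) φ)
  choose! v hv using hS
  have hind' : iSupIndep fun χ : S => ⨅ i, (f i).maxGenEigenspace ((χ : ι → K) i) :=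
    hind.comp Subtype.val_injective
  have hli : LinearIndependent K (fun χ : S => v χ) := by
    refine hind'.linearIndependent _ (fun χ => ?_) (fun χ => (hv χ χ.2).1)
    rw [Submodule.mem_iInf]
    intro i
    rw [mem_maxGenEigenspace]
    exact ⟨1, by rw [pow_one, LinearMap.sub_apply, (hv χ χ.2).2 i, LinearMap.smul_apply, End.one_apply, sub_self]⟩
  have := hli.fintype_card_le_finrank
  rwa [Fintype.card_coe] at this

theorem isSemisimple_of_sq [FiniteDimensional K V] (h2 : (2 : K) ≠ 0) {f : End K V} (hf : f * f = 1) :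
    f.IsSemisimple := by
  have hsep : (Polynomial.X ^ 2 - 1 : Polynomial K).Separable := by
    rw [Polynomial.X_pow_sub_one_separable_iff]
    exact_mod_cast h2
  apply isSemisimple_of_squarefree_aeval_eq_zero hsep.squarefree
  simp [pow_two, hf]

theorem iSup_eigenspace_eq_top (h2 : (2 : K) ≠ 0) {f : End K V} (hf : f * f = 1) :
    ⨆ μ, f.eigenspace μ = ⊤ := by
  rw [eq_top_iff]
  intro v _
  have hff : f (f v) = v := by
    have := congrArg (fun g : End K V => g v) hf
    simpa using this
  have h1 : (2 : K)⁻¹ • (v + f v) ∈ f.eigenspace 1 := by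
    rw [mem_eigenspace_iff, one_smul, map_smul, map_add, hff, add_comm]
  have h3 : (2 : K)⁻¹ • (v - f v) ∈ f.eigenspace (-1) := by
    rw [mem_eigenspace_iff, neg_one_smul, map_smul, map_sub, hff, ← smul_neg, neg_sub]
  have h4 : v = (2 : K)⁻¹ • (v + f v) + (2 : K)⁻¹ • (v - f v) := by
    rw [← smul_add, add_add_sub_cancel, ← two_smul K v, smul_smul, inv_mul_cancel₀ h2, one_smul]
  rw [h4]
  exact Submodule.add_mem _ (Submodule.mem_iSup_of_mem 1 h1) (Submodule.mem_iSup_of_mem (-1) h3)

theorem iSup_wt_eq_top [FiniteDimensional K V] (h2 : (2 : K) ≠ 0) (f : ι → End K V)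
    (hf : ∀ i j, Commute (f i) (f j)) (hsq : ∀ i, f i * f i = 1) :
    ⨆ χ : ι → K, ⨅ i, (f i).eigenspace (χ i) = ⊤ := by
  have h1 := iSup_iInf_maxGenEigenspace_eq_top_of_iSup_maxGenEigenspace_eq_top_of_commute f
    (fun i j _ => hf i j) (fun i => by
      rw [(isFinitelySemisimple_iff_isSemisimple.mpr (isSemisimple_of_sq h2 (hsq i))).iSup_maxGenEigenspace_eq_top_iff]
      exact iSup_eigenspace_eq_top h2 (hsq i))
  have h3 : ∀ i μ, (f i).maxGenEigenspace μ = (f i).eigenspace μ := fun i μ =>
    (isFinitelySemisimple_iff_isSemisimple.mpr (isSemisimple_of_sq h2 (hsq i))).maxGenEigenspace_eq_eigenspace μ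
  simpa only [h3] using h1

/-- A family of commuting involutions, `f i ≠ c • 1`: there is a weight with value `≠ c` at `i`. -/
theorem exists_wt_ne [FiniteDimensional K V] (h2 : (2 : K) ≠ 0) (f : ι → End K V)
    (hf : ∀ i j, Commute (f i) (f j)) (hsq : ∀ i, f i * f i = 1) (i : ι) (c : K)
    (hi : f i ≠ c • (1 : End K V)) : ∃ χ, IsWt f χ ∧ χ i ≠ c := by
  by_contra hcon
  push Not at hcon
  apply hi
  have htop := iSup_wt_eq_top h2 f hf hsq
  have hle : (⨆ χ : ι → K, ⨅ i, (f i).eigenspace (χ i)) ≤ (f i).eigenspace c := by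
    apply iSup_le
    intro χ v hv
    rw [Submodule.mem_iInf] at hv
    by_cases hv0 : v = 0
    · rw [hv0]; exact Submodule.zero_mem _
    · have h1 := hcon χ ⟨v, hv0, fun j => by have := hv j; rwa [mem_eigenspace_iff] at this⟩
      rw [← h1]
      exact hv i
  rw [htop, top_le_iff] at hle
  ext v
  have hv : v ∈ (f i).eigenspace c := by rw [hle]; trivial
  rw [mem_eigenspace_iff] at hv
  rw [hv, LinearMap.smul_apply, End.one_apply]

theorem IsWt.sq_eq {f : ι → End K V} {χ : ι → K} (h : IsWt f χ) {i : ι} (hi : f i * f i = 1) :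
    χ i * χ i = 1 := by
  obtain ⟨v, hv, hχ⟩ := h
  have h1 := congrArg (fun g : End K V => g v) hi
  rw [End.mul_apply, hχ, map_smul, hχ, smul_smul, End.one_apply] at h1
  have h2 : (χ i * χ i - 1) • v = 0 := by rw [sub_smul, one_smul, h1, sub_self]
  exact sub_eq_zero.1 ((smul_eq_zero.1 h2).resolve_right hv)

end Cfsg.Agent.H888.C6
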